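import Cfsg.Agent.H569.Strong
import Cfsg.Agent.H240.StrongP
import Cfsg.Agent.SignalizersComponents.CoprimeGen

/-!
# Strongly `p`-embedded subgroups: generic layer (for S2120)

* `normalizer_le`, `centralizer_le` : normalizers / centralizers of non-trivial `p`-subgroups (elements of order `p`) of `M` lie in `M`;
* `reduce` : `N ⊲ X`, `p ∣ |N|`, `M` strongly `p`-embedded in `X` give `N ∩ M` strongly `p`-embedded in `N`;
* `le_of_noSP`, `le_of_normal` : subgroups `K` with `p ∣ |K ∩ M|` and without strongly `p`-embedded subgroups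
  (with a non-trivial normal `p`-subgroup) lie in `M`;
* `coprime_le` : a non-cyclic elementary abelian `A ≤ M` normalizing a `p'`-group `V` gives `V ≤ M`;
* `noSP_congr` : transfer along isomorphisms; `noSP_of_quotient`, `noSP_of_centralExt` : central extensions.
-/

set_option autoImplicit false

namespace Cfsg.Agent.H818.StrP

open Cfsg Subgroup

variable {X : Type*} [Group X] [Finite X] {p : ℕ} [hp : Fact p.Prime]

/-- `G` has no strongly `p`-embedded subgroup. -/
def NoSP (p : ℕ) (G : Type*) [Group G] : Prop := ∀ M : Subgroup G, ¬ IsStronglyPEmbedded p M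

theorem normalizer_le {M : Subgroup X} (h : IsStronglyPEmbedded p M) {Q : Subgroup X} (hQM : Q ≤ M)
    (hQ : IsPGroup p Q) (hne : Q ≠ ⊥) : normalizer (Q : Set X) ≤ M :=
  H240.StrongP.normalizer_le_of_stronglyP h hQM hQ hne

theorem centralizer_le {M : Subgroup X} (h : IsStronglyPEmbedded p M) {x : X} (hx : x ∈ M)
    (hxp : orderOf x = p) : centralizer ({x} : Set X) ≤ M :=
  H240.StrongP.centralizer_le_of_stronglyP h hx hxp

/-- a conjugate of the strongly embedded subgroup contains a given `p`-subgroup -/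
theorem exists_conj_mem {M : Subgroup X} (h : IsStronglyPEmbedded p M) {Q : Subgroup X} (hQ : IsPGroup p Q) :
    ∃ g : X, Q.map (MulAut.conj g).toMonoidHom ≤ M := by
  obtain ⟨P, hP, _, _⟩ := H569.Strong.exists_sylow h
  obtain ⟨R, hR⟩ := hQ.exists_le_sylow
  obtain ⟨g, hg⟩ := MulAction.exists_smul_eq X R P
  refine ⟨g, ?_⟩
  rintro _ ⟨x, hx, rfl⟩
  apply hP
  rw [← hg, Sylow.coe_subgroup_smul]
  exact ⟨x, hR hx, rfl⟩

theorem of_normIn' {M : Subgroup X} (hM : p ∣ Nat.card ↥M) (hMt : M ≠ ⊤)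
    (h : ∀ Q : Subgroup X, IsPGroup p ↥Q → Q ≤ M → Q ≠ ⊥ → normalizer (Q : Set X) ≤ M) :
    IsStronglyPEmbedded p M := EvenType.StrongP.of_normIn hM hMt h

/-- isomorphic images -/
theorem map_equiv {X' : Type*} [Group X'] [Finite X'] (e : X ≃* X') {M : Subgroup X}
    (h : IsStronglyPEmbedded p M) : IsStronglyPEmbedded p (M.map e.toMonoidHom) := by
  have hcard : Nat.card ↥(M.map e.toMonoidHom) = Nat.card ↥M :=
    (Nat.card_congr (e.subgroupMap M).toEquiv).symm
  refine of_normIn' ?_ ?_ ?_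
  · rw [hcard]; exact EvenType.StrongP.dvd_card h
  · intro htop
    apply h.2.1
    rw [eq_top_iff]
    intro x _
    have h1 : e x ∈ M.map e.toMonoidHom := by rw [htop]; trivial
    obtain ⟨y, hy, hyx⟩ := h1
    have h2 : y = x := e.injective hyx
    rwa [← h2]
  · intro Q hQ hQM hQ1
    have h1 : Q.map e.symm.toMonoidHom ≤ M := by
      rintro _ ⟨x, hx, rfl⟩
      obtain ⟨m, hm, rfl⟩ := hQM hx
      simpa using hm
    have h2 : Q.map e.symm.toMonoidHom ≠ ⊥ := by
      rw [Ne, Subgroup.map_eq_bot_iff_of_injective _ e.symm.injective]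
      exact hQ1
    have h3 := normalizer_le h h1 (hQ.map _) h2
    intro g hg
    refine ⟨e.symm g, h3 ?_, by simp⟩
    rw [mem_normalizer_iff]
    intro y
    constructor
    · rintro ⟨q, hq, rfl⟩
      exact ⟨g * q * g⁻¹, (mem_normalizer_iff.1 hg q).1 hq, by simp⟩
    · rintro ⟨q, hq, hqy⟩
      refine ⟨e y, ?_, by simp⟩
      apply (mem_normalizer_iff.1 hg (e y)).2
      have : q = g * e y * g⁻¹ := by
        have h5 := congrArg e hqy
        simpa using h5
      rwa [← this]

theorem noSP_congr {X' : Type*} [Group X'] [Finite X'] (e : X ≃* X') (h : NoSP p X) : NoSP p X' :=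
  fun _ hM => h _ (map_equiv e.symm hM)

/-- **Reduction to normal subgroups.** -/
theorem reduce {M : Subgroup X} (h : IsStronglyPEmbedded p M) {N : Subgroup X} [N.Normal]
    (hN : p ∣ Nat.card ↥N) : IsStronglyPEmbedded p ((N ⊓ M).subgroupOf N) := by
  have h1 : ¬ N ≤ M := H569.Strong.not_normal_le h hN
  refine H569.Strong.inf_subgroupOf h h1 ?_
  -- a non-trivial `p`-subgroup of `N` is conjugate into `M`
  obtain ⟨S⟩ : Nonempty (Sylow p N) := inferInstance
  have hS1 : (S : Subgroup N).map N.subtype ≠ ⊥ := by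
    rw [Ne, Subgroup.map_eq_bot_iff_of_injective _ N.subtype_injective]
    exact S.ne_bot_of_dvd_card hN
  have hSp : IsPGroup p ↥((S : Subgroup N).map N.subtype) := S.isPGroup'.map _
  obtain ⟨g, hg⟩ := exists_conj_mem h hSp
  set T := ((S : Subgroup N).map N.subtype).map (MulAut.conj g).toMonoidHom with hT
  have hTN : T ≤ N ⊓ M := by
    refine le_inf ?_ hg
    rintro _ ⟨x, hx, rfl⟩
    obtain ⟨s, hs, rfl⟩ := hx
    exact (inferInstance : N.Normal).conj_mem _ s.2 g
  refine dvd_trans ?_ (card_dvd_of_le hTN)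
  have hT1 : T ≠ ⊥ := by
    rw [Ne, hT, Subgroup.map_eq_bot_iff_of_injective _ (MulAut.conj g).injective]
    exact hS1
  have hTp : IsPGroup p ↥T := hSp.map _
  have hTn : Nontrivial ↥T := (Subgroup.nontrivial_iff_ne_bot T).2 hT1
  obtain ⟨n, hn⟩ := IsPGroup.iff_card.1 hTp
  have h2 : 1 < Nat.card ↥T := Finite.one_lt_card
  rw [hn] at h2 ⊢
  refine dvd_pow_self p ?_
  rintro rfl
  simp at h2

/-- subgroups without strongly `p`-embedded subgroups -/
theorem le_of_noSP {M : Subgroup X} (h : IsStronglyPEmbedded p M) {K : Subgroup X} (hK : NoSP p ↥K)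
    (hKM : p ∣ Nat.card ↥(K ⊓ M)) : K ≤ M := by
  by_contra hcon
  exact hK _ (H569.Strong.inf_subgroupOf h hcon hKM)

theorem noSP_of_normal {Q : Subgroup X} [Q.Normal] (hQ : IsPGroup p ↥Q) (hQ1 : Q ≠ ⊥) : NoSP p X := by
  intro M hM
  obtain ⟨P, hP, _, _⟩ := H569.Strong.exists_sylow hM
  have h1 : Q ≤ P := hQ.le_sylow_of_normal P
  have h2 := normalizer_le hM (h1.trans hP) hQ hQ1
  rw [Subgroup.normalizer_eq_top] at h2
  exact hM.2.1 (top_le_iff.1 h2)

/-- subgroups `K` with a non-trivial normal `p`-subgroup `Q` -/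
theorem le_of_normal {M : Subgroup X} (h : IsStronglyPEmbedded p M) {K Q : Subgroup X} (hQK : Q ≤ K)
    (hK : K ≤ normalizer (Q : Set X)) (hQ : IsPGroup p ↥Q) (hQ1 : Q ≠ ⊥)
    (hKM : p ∣ Nat.card ↥(K ⊓ M)) : K ≤ M := by
  refine le_of_noSP h ?_ hKM
  have : (Q.subgroupOf K).Normal := Subgroup.normal_subgroupOf_of_le_normalizer hK
  refine noSP_of_normal (Q := Q.subgroupOf K) hQ.comap_subtype ?_
  rw [Ne, Subgroup.subgroupOf_eq_bot, disjoint_iff, inf_eq_left.2 hQK]
  exact hQ1

/-- **Coprime action.** -/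
theorem coprime_le {M : Subgroup X} (h : IsStronglyPEmbedded p M) {A V : Subgroup X}
    (hA : IsElementaryAbelian p A) (hA2 : p ^ 2 ≤ Nat.card A) (hAM : A ≤ M) (hV : ¬ p ∣ Nat.card V)
    (hAV : A ≤ normalizer (V : Set X)) : V ≤ M := by
  refine (SignalizersComponents.CoprimeGen.le_iSup_centralizer_ne_one hA hA2 hV hAV).trans (iSup_le ?_)
  rintro ⟨a, ha, ha1⟩
  refine inf_le_right.trans (centralizer_le h (hAM ha) ?_)
  exact orderOf_eq_prime (hA.2 a ha) ha1

end Cfsg.Agent.H818.StrP
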