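import Cfsg.Agent.H818.StrP.UFin
import Cfsg.Agent.H316.U6

/-!
# Theorem Z for the finite exceptional groups (H9-U1)

`thmZ : ThmZ m` for `m : MData hp r q K₀`, `D` one of `G2, D4, F4, E6, E7, E8`, `3 ≤ q`.
-/

set_option autoImplicit false
set_option linter.unusedSectionVars false
set_option linter.unusedVariables false

namespace Cfsg.Agent.H818.StrP.UThm

open CoxeterSystem Cfsg Cfsg.Lie Cfsg.Lie.ChevalleyDatum
open Cfsg.Agent.ChevalleyStructure Cfsg.Agent.ChevalleyStructure.Elts Cfsg.Agent.ChevalleyStructure.CoxeterGeom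
  Cfsg.Agent.ChevalleyStructure.CoxeterGeomTypes Cfsg.Agent.ChevalleyStructure.NPerm
  Cfsg.Agent.ChevalleyStructure.XColumns
open Cfsg.Agent.Tits.Roots Cfsg.Agent.Tits.Core Cfsg.Agent.Nodes Cfsg.Agent.Nodes.Reps Cfsg.Agent.Nodes.BNOf
  Cfsg.Agent.Nodes.RGDChev Cfsg.Agent.Nodes.Bruhat Cfsg.Agent.Nodes.NormalForm
open Cfsg.Agent.BpExc Cfsg.Agent.BpExc.Fr Cfsg.Agent.H469.Exc Cfsg.Agent.H469.Exc.SigFr
open Cfsg.Agent.ChevalleyStructure.RootVec Cfsg.Agent.ChevalleyStructure.RootSupport Cfsg.Agent.KFacts.RgdField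
  Cfsg.Agent.KFacts.RgdChevCoord
open Cfsg.Agent.H818.StrP.UTab Cfsg.Agent.H818.StrP.UAct Cfsg.Agent.H316.U6
open scoped Matrix

universe u v

variable {D : ChevalleyDatum} {l : ℕ} {M : CoxeterMatrix (Fin l)} {hp : IsType D l M} {r q : ℕ}
  [hr : Fact r.Prime] {K₀ : Type v} [Group K₀]

/-- the hypotheses of Theorem Z -/
theorem zhyp (m : MData hp r q K₀) (h : HiList D) {H : Subgroup ↥(D.group (KK r))} (h0 : ∀ x ∈ H, m.σ x = x)
    (h1 : ∀ t, m.σ (xg h (top D) t) = xg h (top D) t → xg h (top D) t ∈ H)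
    (h2 : ∀ t, m.σ (xg h 0 t) = xg h 0 t → xg h 0 t ∈ H) :
    ZHyp h hp M.toCoxeterSystem (r ^ m.e) m.σ m.g H where
  fr := m.fr
  gpos a _ ha := m.pos ha
  gtop := m.top
  gact s hs := by
    obtain ⟨s', e, hs', c, hc, h3, h4⟩ := m.act s hs
    exact ⟨s', e, hs', c, hc, fun t => by rw [m.hq]; exact h3 t, fun t => by rw [m.hq]; exact h4 t⟩
  fix := h0
  root := h1
  root' := h2

/-- the fundamental root of `θ` is fixed by the graph automorphism -/
theorem pi_nd (m : MData hp r q K₀) (h : HiList D) : m.π (nd h hp) = nd h hp := by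
  have Z := zhyp m h (H := fixedSubgroup m.σ) (fun x hx => hx) (fun t ht => ht) (fun t ht => ht)
  have hi := simple_lt hp.inList (lt_rank hp (nd h hp))
  have e1 : vec D l (D.simple (nd h hp)) = sr (nd h hp) := vec_simple hp _
  have h1 : rt D (D.simple (nd h hp)) (node D) = 1 := by
    have := congrFun e1 (nd h hp)
    rwa [vec_nd, sr_self] at this
  obtain ⟨s', e2, hs', -⟩ := m.act _ hi
  have h2 := Z.gr_g hi h1 hs' e2
  have h3 := congrFun e2 (nd h hp)
  rw [m.perm, e1, vec_nd, h2] at h3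
  by_contra hne
  rw [sr_ne hne] at h3
  exact one_ne_zero h3

/-- **Theorem Z.** -/
theorem thmZ (m : MData hp r q K₀) (h : HiList D) (hq : 3 ≤ q) : ThmZ m := by
  refine ⟨nd h hp, pi_nd m h, ?_, ?_⟩
  · have h1 : vec D l (top D) (nd h hp) = 2 := by rw [vec_nd, rt_top h]
    show 1 ≤ vec D l (top D) (nd h hp)
    rw [h1]
    norm_num
  · intro H hfix hθ hθ' hspan
    have hv0 : vec D l 0 = -vec D l (top D) := by rw [← neg_top h, vec_neg hp (top_lt h)]
    have Z := zhyp m h (H := H) hfix (fun t ht => hθ _ ht (xg_mem_XX h hp (top_lt h) t)) (fun t ht => hθ' _ ht (by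
      have h1 := xg_mem_XX (F := KK r) h hp (nroots_pos h.checked) t
      rw [hv0] at h1
      exact h1))
    have hq' : 3 ≤ r ^ m.e := by rw [m.hq]; exact hq
    exact ⟨fun u hu hu' => Z.mem (locFin r) hq' hspan hu' hu, fun u hu hu' => Z.mem_neg (locFin r) hq' hspan hu' hu⟩

end Cfsg.Agent.H818.StrP.UThm
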