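import Cfsg.Agent.GammaTwo.OwnRows
import Cfsg.Agent.KFacts.RgdFiltClass
import Cfsg.Agent.KFacts.RgdFiltTwAll
import Cfsg.Agent.KFacts.RgdFiltChev
import Cfsg.Agent.H818.StrP.Gen

/-!
# Strongly `p`-embedded subgroups of groups of Lie type of characteristic `p`, `p` odd, rank at least 2

The minimal parabolic subgroups `P_i ≤ N(V_i)`, `V_i = O_p(P_i) ≠ 1`, generate, so there are none.

* `HasRGD2 p G` : root group datum of characteristic `p` and rank at least 2;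
* `HasRGD2.noSP` : `NoSP p G`;
* `own` : `G` of Lie type of odd characteristic `p`: `NoSP p G`, or `G` is `PSL₂(F)`, `PSU₃(q)`, a Ree group.
-/

set_option autoImplicit false
set_option linter.unusedSectionVars false

namespace Cfsg.Agent.H818.StrP.Own

open Cfsg CoxeterSystem Cfsg.Agent.ChevalleyStructure.CoxeterGeom Cfsg.Agent.Tits.Roots Cfsg.Agent.Tits.Core
  Cfsg.Agent.Tits.RootComb Cfsg.Agent.Tits.Exchange Cfsg.Agent.Nodes.Reps Cfsg.Agent.Nodes.BNOf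
  Cfsg.Agent.Nodes.StabComb Cfsg.Agent.Nodes.Bruhat Cfsg.Agent.Nodes.OppDec Cfsg.Agent.Nodes.LeviDec
  Cfsg.Agent.GammaTwo.Own

section Gen

variable {I W Y : Type*} [Fintype I] [DecidableEq I] [Group W] [Group Y] {M : CoxeterMatrix I}
  {cs : CoxeterSystem M W} {A : I → I → ℤ} {h : IsCartan M A} {r : ℕ} {T : Subgroup Y} {n : I → Y}
  {X : (I → ℤ) → Subgroup Y}

variable (R : RGD cs h r T n X)

include R

theorem V_ne_bot [Finite W] (hI : 2 ≤ Fintype.card I) (i : I) : VJ cs h X {i} ≠ ⊥ := by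
  obtain ⟨j, hj⟩ : ∃ j : I, i ≠ j := by
    have h1 : 1 ≤ (Finset.univ.erase i).card := by
      rw [Finset.card_erase_of_mem (Finset.mem_univ i), Finset.card_univ]; omega
    obtain ⟨j, hj⟩ := Finset.card_pos.1 h1
    exact ⟨j, (Finset.ne_of_mem_erase hj).symm⟩
  intro hV
  apply X_ne_bot R (isRoot_sr cs h j)
  rw [eq_bot_iff, ← hV]
  exact RGD.le_Sup (sr_mem_NotJ (cs := cs) (h := h) (J := {i}) (i := j) (fun h => hj h.symm))

/-- **Generation by the minimal parabolic subgroups.** -/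
theorem gen_own [Finite W] [Finite Y] [Fact r.Prime] (hI : 2 ≤ Fintype.card I) (hG : GG cs h T X = ⊤)
    {Γ : Subgroup Y} (hΓ : ∀ V : Subgroup Y, V ≤ RGD.Sup X (RGD.Pos cs h) → V ≠ ⊥ →
      Subgroup.normalizer (V : Set Y) ≤ Γ) : Γ = ⊤ := by
  have hP : ∀ i : I, PJ cs h T X {i} ≤ Γ := fun i =>
    (PJ_le_normalizer_VJ R {i}).trans (hΓ _ (VJ_le_U {i}) (V_ne_bot R hI i))
  have hn : Subgroup.closure (Set.range n) ≤ Γ := by
    rw [Subgroup.closure_le]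
    rintro _ ⟨i, rfl⟩
    exact hP i (LJ_le_PJ (rp_mem_LJ R (simple_mem_WJ cs (Set.mem_singleton i)) (rp_simple cs R.nsys i)))
  have hne : Nonempty I := Fintype.card_pos_iff.1 (by omega)
  obtain ⟨i0⟩ := hne
  rw [eq_top_iff, ← hG]
  refine sup_le ((T_le_LJ.trans LJ_le_PJ).trans (hP i0)) (RGD.Sup_le ?_)
  rintro x ⟨w, i, rfl⟩
  obtain ⟨k, hk, hkw⟩ := exists_rp_closure (cs := cs) (hN := R.nsys) w
  rw [← R.conj_rp hkw (isRoot_sr cs h i)]
  have h1 : X (sr i) ≤ Γ := by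
    refine le_trans ?_ (hP i)
    exact (RGD.le_Sup (S := RGD.Pos cs h) ⟨isRoot_sr cs h i, sr_nonneg i⟩).trans (RGD.U_le_B.trans B_le_PJ)
  rw [← cj_eq_of_mem (hn hk)]
  exact cj_mono k h1

end Gen

open Cfsg.Agent.Nodes.Comb Cfsg.Agent.Nodes.WittRoot
open Cfsg.Agent.Nodes.RGDLib Cfsg.Agent.Nodes.WittAll
open Cfsg.Agent.TitsThree Cfsg.Agent.TitsThree.Siegel Cfsg.Agent.TitsThree.WittFrame
  Cfsg.Agent.TitsThree.WittWeyl Cfsg.Agent.TitsThree.FrameCN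
open Cfsg.Agent.KFacts.RgdBorelTits Cfsg.Agent.KFacts.RgdFilt Cfsg.Agent.KFacts.RgdFiltWitt

/-- `G` has a root group datum of characteristic `p` and rank at least 2 -/
def HasRGD2 (p : ℕ) (G : Type*) [Group G] : Prop :=
  ∃ (l : ℕ) (M : CoxeterMatrix (Fin l)) (A : Fin l → Fin l → ℤ) (h : IsCartan M A) (T : Subgroup G) (n : Fin l → G)
    (X : (Fin l → ℤ) → Subgroup G) (_ : RGD M.toCoxeterSystem h p T n X),
    2 ≤ l ∧ Finite M.Group ∧ G1 M.toCoxeterSystem h X = ⊤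

/-- **No strongly `p`-embedded subgroups in the own characteristic, rank at least two.** -/
theorem HasRGD2.noSP {p : ℕ} [Fact p.Prime] {G : Type*} [Group G] [Finite G] (hG : HasRGD2 p G) : NoSP p G := by
  obtain ⟨l, M, A, h, T, n, X, R, hl, hW, hX⟩ := hG
  intro H hH
  have hU : IsPGroup p (RGD.Sup X (RGD.Pos M.toCoxeterSystem h)) :=
    R.isPGroup_of_pos (S := RGD.Pos M.toCoxeterSystem h) fun _ hx => ⟨hx.1, hx.2⟩
  obtain ⟨g, hg⟩ := exists_conj_mem hH hU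
  -- replace `H` by a conjugate
  set H' := H.map (MulAut.conj g⁻¹).toMonoidHom with hH'
  have hH'S : IsStronglyPEmbedded p H' := map_equiv (MulAut.conj g⁻¹) hH
  have hUH : RGD.Sup X (RGD.Pos M.toCoxeterSystem h) ≤ H' := by
    intro x hx
    refine ⟨MulAut.conj g x, hg ⟨x, hx, rfl⟩, ?_⟩
    simp [mul_assoc]
  refine hH'S.2.1 (gen_own R (by rwa [Fintype.card_fin]) (GG_eq_top hX) fun V hV hV1 => ?_)
  exact normalizer_le hH'S (hV.trans hUH) (hU.to_le hV) hV1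

section TypeC

open Cfsg.Agent.Nodes.TypeC

variable {F : Type*} [Field F] {V : Type*} [AddCommGroup V] [Module F V] {H : HForm F V} {n : ℕ}
  {Fr : Frame H (Fin n)} {K : Type*} [Group K] (M : Model Fr K) {p : ℕ}

theorem hasRGD2_C (hA : AmbT Fr p M.I) [Finite V] [Fact p.Prime] [CharP F p] {p0 : Fr.Adm} (hp0 : p0.c ≠ 0)
    (hn : 2 ≤ n) : HasRGD2 p K :=
  ⟨n, CoxeterMatrix.B n, A n, isCartan n, _, _, _, rgdC_model M hA hp0 _, hn,
    finite_W (CoxeterMatrix.B n).toCoxeterSystem, Nodes.WittModel.G1_eq_top _ (by omega) _⟩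

end TypeC

theorem hasRGD2_mk {p : ℕ} {G : Type*} [Group G] {l : ℕ} {M : CoxeterMatrix (Fin l)} {A : Fin l → Fin l → ℤ}
    {h : IsCartan M A} {T : Subgroup G} {n : Fin l → G} {X : (Fin l → ℤ) → Subgroup G}
    (hW : Finite M.Group) (R : RGD M.toCoxeterSystem h p T n X) (hX : G1 M.toCoxeterSystem h X = ⊤)
    (hl : 2 ≤ l) : HasRGD2 p G :=
  ⟨l, M, A, h, T, n, X, R, hl, hW, hX⟩

theorem hasRGD2_PSL {F : Type*} [Field F] [Finite F] (n : ℕ) (hn : 2 ≤ n) {p : ℕ} [Fact p.Prime] [CharP F p] :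
    HasRGD2 p (Matrix.ProjectiveSpecialLinearGroup (Fin (n + 1)) F) := by
  have hW : Finite (Cfsg.Agent.LieRecognition.BNCox.cA n).Group :=
    Nodes.RootsA.finite_W (Cfsg.Agent.LieRecognition.BNCox.cA n).toCoxeterSystem (Nodes.RootsA.isCartan n)
  exact hasRGD2_mk (h := Nodes.RootsA.isCartan n) hW (Nodes.RGDTypeA.rgd_psl _ _)
    (Nodes.RGDTypeA.G1_psl_eq_top _ _) hn

section UnitarySp

open Cfsg.Agent.Nodes.WittU Cfsg.Agent.Nodes.WittInst

theorem hasRGD2_PSU {F : Type*} [Field F] [Fintype F] {q N : ℕ} (hF : Fintype.card F = q ^ 2) (hN : 4 ≤ N) {p : ℕ}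
    [Fact p.Prime] [CharP F p] : HasRGD2 p (PSU N F q) := by
  obtain ⟨m, hm⟩ : ∃ m, N = 2 * m ∨ N = 2 * m + 1 := ⟨N / 2, by omega⟩
  obtain ⟨W, -⟩ := exists_wframe hF hm
  obtain ⟨p0, hp0, -⟩ := exists_adm hF W
  exact hasRGD2_C (KInstU.model hF (by omega) W) (AmbT.of_amb (amb_U hF W) p) hp0 (by omega)

theorem hasRGD2_PSp {F : Type*} [Field F] [Finite F] {m : ℕ} (hm : 2 ≤ m) {p : ℕ}
    [Fact p.Prime] [CharP F p] : HasRGD2 p (PSp m F) :=
  hasRGD2_C (KInstSp.model m F) (AmbT.of_amb amb_Sp p) (p0 := SpIdent.adm 1) one_ne_zero hm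

end UnitarySp

section Orthogonal

open Cfsg.Agent.Nodes.WittU Cfsg.Agent.Nodes.WittInst
open QuadraticMap
open Cfsg.Agent.LieClassical Cfsg.Agent.LieClassical.OrthCore Cfsg.Agent.LieClassical.OrthTrans
open Cfsg.Agent.LieClassical.OrthSimple Cfsg.Agent.LieClassical.OrthFinite
open Cfsg.Agent.LieClassical.OrthForms
open Cfsg.Agent.TitsThree.WBridge Cfsg.Agent.TitsThree.KSideO Cfsg.Agent.TitsThree.StdData

variable {F : Type*} [Field F] {m : ℕ}

theorem hasRGD2_odd [Finite F] (h2 : (2 : F) ≠ 0) (hm : 2 ≤ m) {p : ℕ} [Fact p.Prime] [CharP F p] :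
    HasRGD2 p (Cfsg.POmega F (Cfsg.quadFormOdd m F)) := by
  rw [← coe_oddForm]
  have hG : LieClassical.OrthTrans.Good (oddForm m F) := by
    apply good_of_finite (nondeg_oddForm m F h2)
    rw [Module.finrank_fintype_fun_eq_card, Fintype.card_sum, Fintype.card_sum, Fintype.card_fin,
      Fintype.card_unit]
    omega
  have hp : ((embOdd m F).ngt ⟨1, -1 ^ 2, rfl⟩).c ≠ 0 := by
    change (1 : F)⁻¹ * (-1 ^ 2) ≠ 0
    simp
  exact hasRGD2_C (model (wodd m F) hG ⟨_, hp⟩) (AmbT.of_amb (amb_O_of_two _ h2) p) hp hm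

theorem hasRGD2_minus [Finite F] (a b : F)
    (hab : ∀ z₁ z₂ : F, z₁ ^ 2 + a * z₁ * z₂ + b * z₂ ^ 2 = 0 → z₁ = 0 ∧ z₂ = 0) (h2 : (2 : F) ≠ 0)
    (hm : 2 ≤ m) {p : ℕ} [Fact p.Prime] [CharP F p] :
    HasRGD2 p (Cfsg.POmega F (Cfsg.quadFormMinus m F a b)) := by
  rw [← coe_minusForm]
  have hG : LieClassical.OrthTrans.Good (minusForm m F a b) := by
    apply good_of_finite (nondeg_minusForm m F a b hab)
    rw [Module.finrank_fintype_fun_eq_card, Fintype.card_sum, Fintype.card_sum, Fintype.card_fin,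
      Fintype.card_fin]
    omega
  have hp : ((embMinus m F a b hab).ngt ⟨(1, 0), -nf a b (1, 0), rfl⟩).c ≠ 0 := by
    change (1 : F)⁻¹ * (-nf a b (1, 0)) ≠ 0
    simp [nf]
  exact hasRGD2_C (model (wminus m F a b hab) hG ⟨_, hp⟩) (AmbT.of_amb (amb_O_of_two _ h2) p) hp hm

theorem hasRGD2_plus [Finite F] (n : ℕ) {p : ℕ} [Fact p.Prime] [CharP F p] :
    HasRGD2 p (Cfsg.POmega F (Cfsg.quadFormPlus (n + 3) F)) := by
  rw [← coe_plusForm]
  have hG : LieClassical.OrthTrans.Good (plusForm (n + 3) F) := by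
    apply good_of_finite (nondeg_plusForm (n + 3) F)
    rw [Module.finrank_fintype_fun_eq_card, Fintype.card_sum, Fintype.card_fin]
    omega
  exact ⟨_, _, _, _, _, _, _, rgdD_model (wplus (n + 3) F) hG (amb_plus _) (adm_plus _) _, by omega,
    Nodes.TypeD.finite_W (Nodes.TypeD.M (n + 1)).toCoxeterSystem,
    G1D_eq_top (wplus (n + 3) F) (toPOmega hG) (toPOmega_surjective hG) (adm_plus _) _⟩

end Orthogonal

end Cfsg.Agent.H818.StrP.Own

namespace Cfsg.Agent.H818.StrP.Own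

open CoxeterSystem Cfsg.Agent.ChevalleyStructure.CoxeterGeom Cfsg.Agent.Tits.Roots Cfsg.Agent.Tits.Core
  Cfsg.Agent.Tits.RootComb Cfsg.Agent.Nodes.Comb Cfsg.Agent.Nodes.Reps Cfsg.Agent.Nodes.BNOf
open Cfsg.Lie Cfsg.Agent.ChevalleyStructure Cfsg.Agent.ChevalleyStructure.Elts
  Cfsg.Agent.ChevalleyStructure.RootVec Cfsg.Agent.ChevalleyStructure.RootVecTab
  Cfsg.Agent.ChevalleyStructure.NPerm Cfsg.Agent.ChevalleyStructure.CoxeterGeomTypes
open Cfsg.Agent.Nodes Cfsg.Agent.Nodes.RGDChev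

universe u

theorem hasRGD2_group {D : ChevalleyDatum} {l : ℕ} {M : CoxeterMatrix (Fin l)} (hp : IsType D l M) (hl : 2 ≤ l)
    (K : Type u) [Field K] [Finite K] (p : ℕ) [CharP K p] : HasRGD2 p ↥(D.group K) := by
  have : Fact p.Prime := ⟨CharP.char_is_prime K p⟩
  exact hasRGD2_mk (finite_W hp M.toCoxeterSystem) (rgd (K := K) hp M.toCoxeterSystem p) (G1_eq_top hp _) hl

theorem hasRGD2_exceptional {p : ℕ} {G : Type*} [Group G] [Finite G] (hG : Cfsg.IsExceptionalChevChar p G) :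
    ∃ (G' : Type) (_ : Group G') (_ : Finite G'), HasRGD2 p G' ∧ Nonempty (G ≃* G') := by
  obtain ⟨F, _, _, _, ⟨-, ⟨e⟩⟩ | ⟨⟨e⟩⟩ | ⟨⟨e⟩⟩ | ⟨⟨e⟩⟩ | ⟨⟨e⟩⟩⟩ := hG
  · exact ⟨_, _, Finite.of_equiv G e.toEquiv,
      hasRGD2_group (l := 2) (M := CoxeterMatrix.G₂) (by simp [IsType, typeList]) (by omega) F p, ⟨e⟩⟩
  · exact ⟨_, _, Finite.of_equiv G e.toEquiv,
      hasRGD2_group (l := 4) (M := CoxeterMatrix.F₄) (by simp [IsType, typeList]) (by omega) F p, ⟨e⟩⟩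
  · exact ⟨_, _, Finite.of_equiv G e.toEquiv,
      hasRGD2_group (l := 6) (M := CoxeterMatrix.E₆) (by simp [IsType, typeList]) (by omega) F p, ⟨e⟩⟩
  · exact ⟨_, _, Finite.of_equiv G e.toEquiv,
      hasRGD2_group (l := 7) (M := CoxeterMatrix.E₇) (by simp [IsType, typeList]) (by omega) F p, ⟨e⟩⟩
  · exact ⟨_, _, Finite.of_equiv G e.toEquiv,
      hasRGD2_group (l := 8) (M := CoxeterMatrix.E₈) (by simp [IsType, typeList]) (by omega) F p, ⟨e⟩⟩

end Cfsg.Agent.H818.StrP.Own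

namespace Cfsg.Agent.H818.StrP.Own

open CoxeterSystem Cfsg.Agent.ChevalleyStructure.CoxeterGeom Cfsg.Agent.Tits.Roots Cfsg.Agent.Tits.Core
  Cfsg.Agent.Nodes.BNOf Cfsg.Agent.Nodes.RGDTwGen Cfsg.Agent.Nodes.RGDChev Cfsg.Agent.Nodes.RGDFold
open Cfsg.Lie Cfsg.Agent.ChevalleyStructure Cfsg.Agent.ChevalleyStructure.Elts
  Cfsg.Agent.ChevalleyStructure.RootVec Cfsg.Agent.ChevalleyStructure.RootVecTab
open Cfsg.Agent.Nodes Cfsg.Agent.KFacts.RgdFiltTwAll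

universe u

section Fold

variable {D : ChevalleyDatum} {l : ℕ} {M' : CoxeterMatrix (Fin l)} {hp : IsType D l M'} {K : Type u} [Field K]
variable {m : ℕ} {M : CoxeterMatrix (Fin m)}
  {A : Fin m → Fin m → ℤ}
    {J : Fin m → List (Fin l)} {L : List (List ℕ)} {σ : GL D.Idx K →* GL D.Idx K} {ρ ρ' : ℕ → ℕ}
    {f : ℕ → K → K} {G : Subgroup (GL D.Idx K)} (FD : FoldData D M A J L)
    (FG : FoldGrp hp K J L σ ρ ρ' f G)

include FD FG

theorem hasRGD2_fold [Finite K] (p : ℕ) [CharP K p] (h : IsCartan M A) (hm : 2 ≤ m) : HasRGD2 p ↥G := by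
  have : Fact p.Prime := ⟨CharP.char_is_prime K p⟩
  exact hasRGD2_mk (finite_W (hp := hp) M.toCoxeterSystem h FD) (rgd M.toCoxeterSystem h FD FG p)
    (G1_eq_top M.toCoxeterSystem h FD FG p) hm

end Fold

theorem hasRGD2_twisted {p : ℕ} {G : Type*} [Group G] [Finite G] (hG : Cfsg.IsTwistedE6D4Char p G) :
    ∃ (G' : Type) (_ : Group G') (_ : Finite G'), HasRGD2 p G' ∧ Nonempty (G ≃* G') := by
  obtain ⟨K, _, _, _, q, hq, ⟨hK, ⟨e⟩⟩ | ⟨hK, ⟨e⟩⟩⟩ := hG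
  · obtain ⟨φ, hφ, hqq⟩ := TwE6Basic.exists_frob hq hK
    exact ⟨_, _, Finite.of_equiv G e.toEquiv,
      hasRGD2_fold RGDTwE6.foldData (RGDTwE6.foldGrp hφ hqq) p RGDTwE6.isCartan (by omega), ⟨e⟩⟩
  · obtain ⟨φ, hφ⟩ := D4Fixed.exists_frob hq hK
    exact ⟨_, _, Finite.of_equiv G e.toEquiv,
      hasRGD2_fold RGDTwD4.foldData (RGDTwD4.foldGrp hφ (D4Fixed.twisted_le_fix hK hφ)) p RGDTwD4.isCartan
        (by omega), ⟨e⟩⟩

end Cfsg.Agent.H818.StrP.Own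

namespace Cfsg.Agent.H818.StrP.Own

open Cfsg

theorem fact_prime {F : Type} [Field F] [Finite F] {p : ℕ} [CharP F p] : Fact p.Prime :=
  ⟨CharP.char_is_prime F p⟩

theorem noSP_equiv {p : ℕ} [Fact p.Prime] {G G' : Type*} [Group G] [Finite G] [Group G'] [Finite G']
    (hG : HasRGD2 p G') (e : G ≃* G') : NoSP p G := noSP_congr e.symm hG.noSP

theorem two_ne_zero_of {F : Type} [Field F] [Finite F] {p : ℕ} [CharP F p] (hp : p ≠ 2) : (2 : F) ≠ 0 := by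
  intro h
  have h3 : CharP F 2 := CharTwo.of_one_ne_zero_of_two_eq_zero one_ne_zero h
  exact hp (CharP.eq F ‹CharP F p› h3)

/-- **Strongly `p`-embedded subgroups in the own characteristic, `p` odd.** -/
theorem own {p : ℕ} [Fact p.Prime] (hp : p ≠ 2) {G : Type*} [Group G] [Finite G] (hG : IsLieTypeChar p G) :
    NoSP p G ∨ (∃ (F : Type) (_ : Field F) (_ : Fintype F), CharP F p ∧
      Nonempty (G ≃* Matrix.ProjectiveSpecialLinearGroup (Fin 2) F)) ∨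
    (∃ (F : Type) (_ : Field F) (_ : Fintype F) (n : ℕ), 1 ≤ n ∧ Fintype.card F = p ^ (2 * n) ∧
      Nonempty (G ≃* PSU 3 F (p ^ n))) ∨
    (p = 3 ∧ Lie.IsoRee G) := by
  have hpp : p.Prime := Fact.out
  rcases hG with h | h | h | h | h | h | h | h | h | h | h
  · obtain ⟨F, iF, iFt, iC, n, hn, -, ⟨e⟩⟩ := h
    rcases Nat.eq_or_lt_of_le hn with h2 | h2
    · subst h2
      exact Or.inr (Or.inl ⟨F, iF, iFt, iC, ⟨e⟩⟩)
    · obtain ⟨n, rfl⟩ : ∃ k, n = k + 1 := ⟨n - 1, by omega⟩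
      have : Finite (Matrix.ProjectiveSpecialLinearGroup (Fin (n + 1)) F) := Quotient.finite _
      exact Or.inl (noSP_equiv (hasRGD2_PSL n (by omega)) e)
  · obtain ⟨F, _, _, _, m, hm, -, ⟨e⟩⟩ := h
    have : Finite (PSp m F) := Quotient.finite _
    exact Or.inl (noSP_equiv (hasRGD2_PSp hm) e)
  · obtain ⟨F, iF, iFt, iC, n, q, hF, hn, -, ⟨e⟩⟩ := h
    rcases Nat.eq_or_lt_of_le hn with h2 | h2
    · subst h2
      obtain ⟨k, -, hk⟩ := FiniteField.card F p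
      have hq : q ∣ p ^ (k : ℕ) := by rw [← hk, hF]; exact Dvd.intro_left (q ^ 1) (by ring)
      obtain ⟨j, hj, rfl⟩ := (Nat.dvd_prime_pow hpp).1 hq
      have h3 : (k : ℕ) = 2 * j := by
        have h4 : p ^ (k : ℕ) = p ^ (2 * j) := by rw [← hk, hF]; ring
        exact Nat.pow_right_injective hpp.two_le h4
      have hkpos := k.pos
      exact Or.inr (Or.inr (Or.inl ⟨F, iF, iFt, j, by omega, by rw [hF]; ring, ⟨e⟩⟩))
    · have : Finite (PSU n F q) := Quotient.finite _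
      exact Or.inl (noSP_equiv (hasRGD2_PSU hF (by omega)) e)
  · obtain ⟨F, _, _, _, m, hm, -, ⟨e⟩⟩ := h
    have : Finite (Cfsg.POmega F (Cfsg.quadFormOdd m F)) := Quotient.finite _
    exact Or.inl (noSP_equiv (hasRGD2_odd (two_ne_zero_of hp) (by omega)) e)
  · obtain ⟨F, _, _, _, m, hm, ⟨e⟩⟩ := h
    obtain ⟨n, rfl⟩ : ∃ n, m = n + 3 := ⟨m - 3, by omega⟩
    have : Finite (Cfsg.POmega F (Cfsg.quadFormPlus (n + 3) F)) := Quotient.finite _
    exact Or.inl (noSP_equiv (hasRGD2_plus n) e)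
  · obtain ⟨F, _, _, _, m, a, b, hm, hab, ⟨e⟩⟩ := h
    have : Finite (Cfsg.POmega F (Cfsg.quadFormMinus (m - 1) F a b)) := Quotient.finite _
    exact Or.inl (noSP_equiv (hasRGD2_minus a b hab (two_ne_zero_of hp) (by omega)) e)
  · obtain ⟨G', _, _, hG', ⟨e⟩⟩ := hasRGD2_exceptional h
    exact Or.inl (noSP_equiv hG' e)
  · obtain ⟨G', _, _, hG', ⟨e⟩⟩ := hasRGD2_twisted h
    exact Or.inl (noSP_equiv hG' e)
  · exact absurd h.1 hp
  · exact absurd h.1 hp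
  · exact Or.inr (Or.inr (Or.inr h))

end Cfsg.Agent.H818.StrP.Own
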