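import Cfsg.Agent.H818.StrP.UKer

/-!
# Fixed Bruhat forms and the action of `N` on the root vectors
-/

set_option autoImplicit false
set_option linter.unusedSectionVars false
set_option linter.unusedVariables false

namespace Cfsg.Agent.H818.StrP.UAct

open CoxeterSystem Cfsg Cfsg.Lie Cfsg.Lie.ChevalleyDatum
open Cfsg.Agent.ChevalleyStructure Cfsg.Agent.ChevalleyStructure.Elts Cfsg.Agent.ChevalleyStructure.CoxeterGeom
  Cfsg.Agent.ChevalleyStructure.CoxeterGeomTypes Cfsg.Agent.ChevalleyStructure.NPerm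
open Cfsg.Agent.Tits.Roots Cfsg.Agent.Tits.Core Cfsg.Agent.Nodes Cfsg.Agent.Nodes.Reps Cfsg.Agent.Nodes.BNOf
  Cfsg.Agent.Nodes.RGDChev Cfsg.Agent.Nodes.Bruhat Cfsg.Agent.Nodes.NormalForm
open Cfsg.Agent.KFacts.RgdField Cfsg.Agent.KFacts.RgdChevCoord
open Cfsg.Agent.BpExc Cfsg.Agent.BpExc.TorCent Cfsg.Agent.BpExc.TorChev Cfsg.Agent.BpExc.Tow
  Cfsg.Agent.BpExc.TowChev Cfsg.Agent.BpExc.Fr Cfsg.Agent.BpExc.LangFr Cfsg.Agent.GpExc.Field
  Cfsg.Agent.BpExc.NInst Cfsg.Agent.BpExc.NChev Cfsg.Agent.BpExc.CommZ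
open Cfsg.Agent.ChevalleyStructure.RootVec Cfsg.Agent.ChevalleyStructure.RootSupport
  Cfsg.Agent.ChevalleyStructure.XColumns Cfsg.Agent.ChevalleyStructure.HMatDiagAll Cfsg.Agent.H818.StrP.UTab
open scoped Matrix commutatorElement

universe u

/-! ### fixed Bruhat forms -/

section Lim

variable {I W Y : Type*} [Fintype I] [DecidableEq I] [Group W] [Group Y] {M : CoxeterMatrix I}
  {cs : CoxeterSystem M W} {A : I → I → ℤ} {h : IsCartan M A} {p : ℕ}
  {J : Type*} [Preorder J] {T : J → Subgroup Y} {n : I → Y} {X : J → (I → ℤ) → Subgroup Y}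
  (H : Tow cs h p T n X)

include H

/-- the Weyl group element of the image of a representative -/
theorem rep_fr (hinj : ∀ a b, IsRoot cs h a → IsRoot cs h b → XL X a = XL X b → a = b) {τ : MulAut Y}
    {g : (I → ℤ) ≃+ (I → ℤ)} (F : Fr cs h (TL T) (XL X) τ g) {w w' : W} {k : Y} (hk : Rp cs H.nsys w k)
    (hk' : Rp cs H.nsys w' (τ k)) {a : I → ℤ} (ha : IsRoot cs h a) : rep cs h w' (g a) = g (rep cs h w a) := by
  have hga := (F.root a).2 ha
  apply hinj _ _ (hga.act w') ((F.root _).2 (ha.act w))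
  rw [← H.conj_rp hk' hga, ← F.map_eq (ha.act w), ← H.conj_rp hk ha, ← F.map_eq ha]
  ext y
  rw [mem_cj]
  constructor
  · rintro ⟨u, hu, e⟩
    refine ⟨k * u * k⁻¹, conj_mem_cj.2 hu, ?_⟩
    have e' : τ u = (τ k)⁻¹ * y * τ k := e
    show τ (k * u * k⁻¹) = y
    rw [map_mul, map_mul, map_inv, e']
    group
  · rintro ⟨u, hu, e⟩
    refine ⟨k⁻¹ * u * k, mem_cj.1 hu, ?_⟩
    have e' : τ u = y := e
    show τ (k⁻¹ * u * k) = (τ k)⁻¹ * y * τ k
    rw [map_mul, map_mul, map_inv, e']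

/-- **Fixed elements have fixed Bruhat forms.** -/
theorem exists_fixed_form [Finite W] (hG : GG cs h (TL T) (XL X) = ⊤)
    (hsep : ∀ a, IsRoot cs h a → ∃ s ∈ TL T, ∀ u ∈ XL X a, u * s = s * u → u = 1)
    (hinj : ∀ a b, IsRoot cs h a → IsRoot cs h b → XL X a = XL X b → a = b) {τ : MulAut Y}
    {g : (I → ℤ) ≃+ (I → ℤ)} (F : Fr cs h (TL T) (XL X) τ g) (hpos : ∀ a, IsRoot cs h a → 0 ≤ a → 0 ≤ g a)
    {y : Y} (hy : τ y = y) :
    ∃ u ∈ RGD.Sup (XL X) (RGD.Pos cs h), ∃ w k, Rp cs H.nsys w k ∧ ∃ v ∈ RGD.Sup (XL X) (RGD.Pos cs h),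
      y = u * k * v ∧ τ u = u ∧ τ k = k ∧ τ v = v := by
  obtain ⟨w, u, hu, k, hk, v, hv, e⟩ := H.exists_normal_form (g := y) (by rw [hG]; exact Subgroup.mem_top y)
  obtain ⟨w', hk'⟩ := rp_fr H hG hsep F hk
  have hrep := fun a => rep_fr H hinj F (a := a) hk hk'
  have hneg : ∀ a, IsRoot cs h a → a ≤ 0 → g a ≤ 0 := by
    intro a ha h0
    have h1 := hpos (-a) ha.neg (neg_nonneg.2 h0)
    rw [map_neg] at h1
    exact neg_nonneg.1 h1
  have h1 : τ u ∈ RGD.Sup (XL X) (RGD.Pos cs h) := by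
    have h2 : RGD.Sup (XL X) (RGD.Pos cs h) ≤ (RGD.Sup (XL X) (RGD.Pos cs h)).comap τ.toMonoidHom :=
      RGD.Sup_le fun a ha y hy => RGD.le_Sup (X := XL X) (S := RGD.Pos cs h)
        (⟨(F.root a).2 ha.1, hpos a ha.1 ha.2⟩ : g a ∈ RGD.Pos cs h) ((F.map a ha.1 y).2 hy)
    exact h2 hu
  have h3 : τ v ∈ RGD.Sup (XL X) (NW cs h w') := by
    have h2 : RGD.Sup (XL X) (NW cs h w) ≤ (RGD.Sup (XL X) (NW cs h w')).comap τ.toMonoidHom :=
      RGD.Sup_le fun a ha y hy => RGD.le_Sup (X := XL X) (S := NW cs h w')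
        (⟨(F.root a).2 ha.1, hpos a ha.1 ha.2.1, by
          rw [hrep a ha.1]; exact hneg _ (ha.1.act w) ha.2.2⟩ : g a ∈ NW cs h w') ((F.map a ha.1 y).2 hy)
    exact h2 hv
  have h4 : u * k * v = τ u * τ k * τ v := by rw [← map_mul, ← map_mul, ← e, hy]
  obtain ⟨-, e1, e2, e3⟩ := H.normal_form_unique hu h1 hk hk' hv h3 h4
  exact ⟨u, hu, w, k, hk, v, RGD.Sup_mono (S := NW cs h w) (S' := RGD.Pos cs h) (fun x hx => ⟨hx.1, hx.2.1⟩) hv,
    e, e1.symm, e2.symm, e3.symm⟩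

end Lim

/-! ### the action of `N` on the root vectors -/

section

variable {D : ChevalleyDatum} {F : Type u} [Field F] (h : HiList D)
  {l : ℕ} {M : CoxeterMatrix (Fin l)} (hp : IsType D l M) {W : Type*} [Group W] (cs : CoxeterSystem M W)
  (hk : LocFin F) (r : ℕ) [Fact r.Prime] [CharP F r]

/-- `n_i e_s = c e_{s_i s}` -/
theorem act_nc (i : Fin l) {s : ℕ} (hs : s < D.nroots) : ∃ c : F, c ≠ 0 ∧
    act (nc hp F i) (ev D F s) = c • ev D F (D.reflectRoot i s) := by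
  obtain ⟨c, hc, h1, -⟩ := NConj.monomial (F := F) hp.inList (lt_rank hp i) ⟨s, hs⟩
  refine ⟨c, hc, ?_⟩
  funext a
  have e : ((nc hp F i : ↥(D.group F)) : GL D.Idx F).1 = D.nMat F (D.simple i) 1 := coe_nG _ _ _
  rw [act_def, e, mulVec_ev _ hs, h1, Pi.smul_apply, smul_eq_mul]
  rcases a with j | v
  · rw [if_neg (by simp), ev_inl, mul_zero]
  · rw [ev_inr]
    by_cases hv : v.val = D.reflectRoot i s
    · rw [if_pos hv, if_pos (congrArg Sum.inr (Fin.ext hv)), mul_one]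
    · rw [if_neg hv, if_neg (fun e => hv (congrArg Fin.val (Sum.inr_injective e))), mul_zero]

include h in
/-- **`N` permutes the root vectors up to scalars.** -/
theorem rp_ev {w : W} {g : ↥(D.group F)} (hg : Rp cs (tow (k := F) hp cs hk r).nsys w g) {s : ℕ}
    (hs : s < D.nroots) : ∃ s' < D.nroots, vec D l s' = rep cs hp.isCartan w (vec D l s) ∧
      ∃ c : F, c ≠ 0 ∧ act g (ev D F s) = c • ev D F s' := by
  have H := tow (k := F) hp cs hk r
  have key : ∀ ω : List (Fin l), ∃ k, Rp cs H.nsys (cs.wordProd ω) k ∧ ∀ s < D.nroots, ∃ s' < D.nroots,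
      vec D l s' = rep cs hp.isCartan (cs.wordProd ω) (vec D l s) ∧
      ∃ c : F, c ≠ 0 ∧ act k (ev D F s) = c • ev D F s' := by
    intro ω
    induction ω with
    | nil =>
      refine ⟨1, by rw [wordProd_nil]; exact rp_one, fun s hs => ⟨s, hs, ?_, 1, one_ne_zero, ?_⟩⟩
      · rw [wordProd_nil, map_one, Module.End.one_apply]
      · rw [act_one, one_smul]
    | cons i ω ih =>
      obtain ⟨k, hk, h1⟩ := ih
      refine ⟨nc hp F i * k, ?_, fun s hs => ?_⟩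
      · rw [wordProd_cons]
        exact (rp_simple cs H.nsys i).mul hk
      · obtain ⟨s', hs', e, c, hc, h2⟩ := h1 s hs
        obtain ⟨d, hd, h3⟩ := act_nc (F := F) hp i hs'
        refine ⟨D.reflectRoot i s', reflectRoot_lt hp.inList (lt_rank hp i) hs', ?_, c * d, mul_ne_zero hc hd, ?_⟩
        · rw [wordProd_cons, rep_mul_apply, ← e, rep_vec hp cs i hs']
        · rw [act_mul, h2, act_smul, h3, smul_smul]
  obtain ⟨ω, rfl⟩ := cs.wordProd_surjective w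
  obtain ⟨k, hk', h1⟩ := key ω
  have ht : k⁻¹ * g ∈ TT D F := by
    rw [← TL_eq (k := F) hp hk]
    exact hk'.unique hg
  obtain ⟨c, hc, h2⟩ := (act_torus h ht).2 s hs
  obtain ⟨s', hs', e, d, hd, h3⟩ := h1 s hs
  refine ⟨s', hs', e, c * d, mul_ne_zero hc hd, ?_⟩
  have e1 : g = k * (k⁻¹ * g) := by group
  rw [e1, act_mul, h2, act_smul, h3, smul_smul]

include h in
theorem XX_inj {a b : Fin l → ℤ} (ha : IsRoot cs hp.isCartan a) (hb : IsRoot cs hp.isCartan b)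
    (hab : XX D l F a = XX D l F b) : a = b := by
  obtain ⟨s, hs, rfl⟩ := (isRoot_iff hp cs a).1 ha
  obtain ⟨t, ht, rfl⟩ := (isRoot_iff hp cs b).1 hb
  have h1 : D.rootSubgroup F s = D.rootSubgroup F t := by
    ext y
    rw [mem_rootSubgroup_iff hp.inList, mem_rootSubgroup_iff hp.inList]
    constructor
    · rintro ⟨u, rfl⟩
      have h2 : xg h s u ∈ XX D l F (vec D l t) := by rw [← hab]; exact xg_mem_XX h hp hs u
      obtain ⟨v, hv⟩ := (mem_XX h hp ht).1 h2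
      exact ⟨v, congrArg Subtype.val hv⟩
    · rintro ⟨u, rfl⟩
      have h2 : xg h t u ∈ XX D l F (vec D l s) := by rw [hab]; exact xg_mem_XX h hp ht u
      obtain ⟨v, hv⟩ := (mem_XX h hp hs).1 h2
      exact ⟨v, congrArg Subtype.val hv⟩
  rw [rootSubgroup_injective hp.inList F hs ht h1]

end

end Cfsg.Agent.H818.StrP.UAct
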