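import Cfsg.Agent.H818.StrP.UAct
import Cfsg.Agent.ChevalleyStructure.Grading

/-!
# The adjoint module: the action of `U`, `T`, `N` and of the long root subgroup `X_θ`
-/

set_option autoImplicit false
set_option linter.unusedSectionVars false

namespace Cfsg.Agent.H818.StrP.UAct

open CoxeterSystem Cfsg Cfsg.Lie Cfsg.Lie.ChevalleyDatum
open Cfsg.Agent.ChevalleyStructure Cfsg.Agent.ChevalleyStructure.Elts Cfsg.Agent.ChevalleyStructure.CoxeterGeom
  Cfsg.Agent.ChevalleyStructure.CoxeterGeomTypes Cfsg.Agent.ChevalleyStructure.NPerm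
open Cfsg.Agent.Tits.Roots Cfsg.Agent.Tits.Core Cfsg.Agent.Nodes Cfsg.Agent.Nodes.Reps Cfsg.Agent.Nodes.BNOf
  Cfsg.Agent.Nodes.RGDChev Cfsg.Agent.Nodes.Bruhat Cfsg.Agent.Nodes.NormalForm
open Cfsg.Agent.KFacts.RgdField Cfsg.Agent.KFacts.RgdChevCoord
open Cfsg.Agent.BpExc.Tow Cfsg.Agent.BpExc.TowChev Cfsg.Agent.BpExc.CommZ
open Cfsg.Agent.ChevalleyStructure.RootVec Cfsg.Agent.ChevalleyStructure.RootSupport
  Cfsg.Agent.ChevalleyStructure.XColumns Cfsg.Agent.ChevalleyStructure.HMatDiagAll Cfsg.Agent.H818.StrP.UTab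
open scoped Matrix commutatorElement

universe u

variable {D : ChevalleyDatum} {F : Type u} [Field F] (h : HiList D)

/-! ### the columns of `x_θ(t)` and of the torus -/

theorem keys_nodup (h : HiList D) : ((XColumns.row D (top D)).map Prod.fst).Nodup :=
  (SL2All.good_of_mem D h.inList (top D) (top_lt h)).keys

/-- `x_θ(t) e_s = e_s ± t e_{θ+s}` for `s` of grade `-1` -/
theorem act_top_ev {s : ℕ} (hs : s < D.nroots) (h1 : rt D s (node D) = -1) : ∃ ε : F, ε ≠ 0 ∧ ∀ t : F,
    act (xg h (top D) t) (ev D F s) = ev D F s + (ε * t) • ev D F (tgt D s) := by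
  obtain ⟨ε, hε, h2⟩ := ent_spec h hs h1
  refine ⟨(ε : F), ?_, fun t => ?_⟩
  · rcases hε with rfl | rfl <;> simp
  · have hst : s ≠ top D := by
      rintro rfl; rw [rt_top h] at h1; omega
    have hs0 : s ≠ D.neg (top D) := by
      rw [neg_top h]
      rintro rfl; rw [rt_zero h, rt_top h] at h1; omega
    rw [act_xg, x_mulVec_ev (top_lt h) hs hst hs0 (keys_nodup h), h2]
    simp

/-- `x_θ(t) e_{-θ} = e_{-θ} + t hθ - t² e_θ` -/
theorem act_top_ev_zero (t : F) :
    act (xg h (top D) t) (ev D F 0) = ev D F 0 + t • hT D F - t ^ 2 • ev D F (top D) := by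
  have hn : D.neg (top D) < D.nroots := RootVec.neg_lt h.checked (top_lt h)
  have hne : D.neg (top D) ≠ top D := RootVec.neg_ne h.checked (top_lt h)
  have h1 := x_mulVec_ev_neg (F := F) (top_lt h) hn hne t
  rw [neg_top h] at h1
  rw [act_xg, h1]
  rfl

include h in
/-- elements of the torus are diagonal -/
theorem act_torus {t : ↥(D.group F)} (ht : t ∈ TT D F) : act t (hT D F) = hT D F ∧
    ∀ s < D.nroots, ∃ c : F, c ≠ 0 ∧ act t (ev D F s) = c • ev D F s := by
  have h1 : ((t : GL D.Idx F)) ∈ D.diagonalSubgroup F := ht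
  obtain ⟨χ, hχ⟩ := diagonalSubgroup_le_torus h.inList h1
  have hne : ∀ s, χ s ≠ 0 := by
    intro s h0
    have h2 : ((t : GL D.Idx F) : Matrix D.Idx D.Idx F) * (((t : GL D.Idx F)⁻¹ : GL D.Idx F) : Matrix D.Idx D.Idx F) = 1 := by
      rw [← Units.val_mul, mul_inv_cancel, Units.val_one]
    rw [hχ] at h2
    have h3 := congrFun (congrFun h2 (Sum.inr s)) (Sum.inr s)
    rw [Matrix.diagonal_mul, Matrix.one_apply_eq] at h3
    simp [h0] at h3
  constructor
  · funext a
    rw [act_def, hχ, Matrix.mulVec_diagonal]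
    rcases a with i | s
    · rw [Sum.elim_inl, one_mul]
    · show _ * (0 : F) = 0
      rw [mul_zero]
  · intro s hs
    refine ⟨χ ⟨s, hs⟩, hne _, ?_⟩
    funext a
    rw [act_def, hχ, Matrix.mulVec_diagonal, Pi.smul_apply, smul_eq_mul]
    rcases a with i | v
    · rw [ev_inl, mul_zero, mul_zero]
    · rw [ev_inr]
      by_cases hv : v.val = s
      · rw [if_pos hv]
        subst hv
        rfl
      · rw [if_neg hv, mul_zero, mul_zero]

include h in
/-- the torus is contained in `Fil` -/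
theorem torus_le_Fil : TT D F ≤ Fil D F := by
  have key : ∀ t ∈ TT D F, ∀ (j : ℤ) (v : D.Idx → F), v ∈ Vge D F j → act t v ∈ Vge D F j := by
    intro t ht j v hv a ha
    have h1 : ((t : GL D.Idx F)) ∈ D.diagonalSubgroup F := ht
    obtain ⟨χ, hχ⟩ := diagonalSubgroup_le_torus h.inList h1
    rw [act_def, hχ, Matrix.mulVec_diagonal, hv a ha, mul_zero]
  intro t ht j v
  refine ⟨fun hv => ?_, key t ht j v⟩
  have h1 := key t⁻¹ (inv_mem ht) j _ hv
  rwa [act_inv_act] at h1

/-- the coroot elements of `θ` -/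
def ht (h : HiList D) (t : F) : ↥(D.group F) := ⟨hG h.inList (top D) t, hG_mem_group h.inList _ _⟩

theorem ht_mem {t : F} (h0 : t ≠ 0) : ht h t ∈ TT D F := hG_mem_diagonal h.inList (top_lt h) h0

/-- `h_θ(t)` acts as `t` on the grade 1 part -/
theorem act_ht {t : F} (h0 : t ≠ 0) {w : D.Idx → F} (hw : w ∈ Vge D F 1) :
    act (ht h t) w - t • w ∈ Vge D F 2 := by
  intro a ha
  have e : ((ht h t : ↥(D.group F)) : GL D.Idx F).1 = D.hMat F (top D) t := coe_hG _ _ _
  rw [Pi.sub_apply, act_def, e, hMat_eq_diagonal h.inList (top_lt h) h0, Matrix.mulVec_diagonal, Pi.smul_apply,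
    smul_eq_mul]
  by_cases h1 : gr D a < 1
  · rw [hw a h1, mul_zero, mul_zero, sub_zero]
  · rcases a with i | s
    · rw [gr_inl] at h1; omega
    · have h2 : rt D s.val (node D) = 1 := by rw [gr_inr] at h1 ha; omega
      rw [Sum.elim_inr, expo_eq h s.2, h2, zpow_one, sub_self]

include h in
theorem gradeCheck_rt {r : ℕ} (hr : r < D.nroots) : Grading.gradeCheck D (fun s => rt D s (node D)) r = true := by
  unfold Grading.gradeCheck
  rw [Bool.and_eq_true, decide_eq_true_eq, List.all_eq_true]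
  refine ⟨rt_neg h.checked hr _, fun e he => ?_⟩
  rw [List.all_eq_true]
  rintro ⟨q, i⟩ hq
  rw [List.mem_zipIdx_iff_getElem?] at hq
  rw [decide_eq_true_eq]
  obtain ⟨_, h2⟩ := row_entry h.checked he hq
  have := h2 (node D)
  simp only
  rw [this]
  push_cast
  ring

/-- `h_θ(t) x_r(c) = x_r(t^⟨r, θ^∨⟩ c) h_θ(t)` -/
theorem ht_mul_xg {t : F} (h0 : t ≠ 0) {r : ℕ} (hr : r < D.nroots) (c : F) :
    ht h t * xg h r c = xg h r (t ^ rt D r (node D) * c) * ht h t := by
  apply Subtype.ext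
  apply Units.ext
  have e : ((ht h t : ↥(D.group F)) : GL D.Idx F).1 = D.hMat F (top D) t := coe_hG _ _ _
  have e2 : D.hMat F (top D) t = Grading.gradeMat D F (fun s => rt D s (node D)) t := by
    rw [hMat_eq_diagonal h.inList (top_lt h) h0]
    unfold Grading.gradeMat
    congr 1
    funext a
    rcases a with i | s
    · rfl
    · rw [Sum.elim_inr, Sum.elim_inr, expo_eq h s.2]
  rw [Subgroup.coe_mul, Subgroup.coe_mul, Units.val_mul, Units.val_mul, e, e2, coe_xg, coe_xg, coe_xG, coe_xG]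
  exact Grading.gradeMat_mul_x D _ t h0 r hr (gradeCheck_rt h hr) c

/-! ### `U` and the radical of the parabolic subgroup of `θ` -/

section

variable {l : ℕ} {M : CoxeterMatrix (Fin l)} (hp : IsType D l M) {W : Type*} [Group W] (cs : CoxeterSystem M W)

/-- the node as an element of `Fin l` -/
def nd (h : HiList D) (hp : IsType D l M) : Fin l := ⟨node D, by have := node_lt h; rwa [hp.rank_eq] at this⟩

theorem vec_nd (s : ℕ) : vec D l s (nd h hp) = rt D s (node D) := rfl

/-- the roots of grade `≥ 1` -/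
def S1 (h : HiList D) (hp : IsType D l M) (cs : CoxeterSystem M W) : Set (Fin l → ℤ) :=
  {a | IsRoot cs hp.isCartan a ∧ 1 ≤ a (nd h hp)}

/-- the unipotent radical `Q` of the parabolic subgroup of `θ` -/
def Q1 (h : HiList D) (hp : IsType D l M) (cs : CoxeterSystem M W) (F : Type u) [Field F] : Subgroup ↥(D.group F) :=
  RGD.Sup (XX D l F) (S1 h hp cs)

/-- `U` -/
abbrev UU (hp : IsType D l M) (cs : CoxeterSystem M W) (F : Type u) [Field F] : Subgroup ↥(D.group F) :=
  RGD.Sup (XX D l F) (RGD.Pos cs hp.isCartan)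

include hp in
theorem mem_XX {r : ℕ} (hr : r < D.nroots) {g : ↥(D.group F)} : g ∈ XX D l F (vec D l r) ↔ ∃ t, g = xg h r t := by
  rw [Cfsg.Agent.LangThm.mem_XX_vec hp hr]
  constructor
  · rintro ⟨t, ht⟩; exact ⟨t, Subtype.ext ht⟩
  · rintro ⟨t, rfl⟩; exact ⟨t, rfl⟩

theorem xg_mem_XX (hp : IsType D l M) {r : ℕ} (hr : r < D.nroots) (t : F) : xg h r t ∈ XX D l F (vec D l r) :=
  (mem_XX h hp hr).2 ⟨t, rfl⟩

/-- generation -/
theorem Sup_le_of {S : Set (Fin l → ℤ)} (hS : ∀ a ∈ S, IsRoot cs hp.isCartan a) {K : Subgroup ↥(D.group F)}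
    (hK : ∀ r < D.nroots, vec D l r ∈ S → ∀ t, xg h r t ∈ K) : RGD.Sup (XX D l F) S ≤ K := by
  refine RGD.Sup_le fun a ha => ?_
  obtain ⟨r, hr, rfl⟩ := (isRoot_iff hp cs a).1 (hS a ha)
  intro y hy
  obtain ⟨t, rfl⟩ := (mem_XX h hp hr).1 hy
  exact hK r hr ha t

include h hp in
theorem vec_nonneg {r : ℕ} (h0 : 0 ≤ vec D l r) : 0 ≤ rt D r (node D) := h0 (nd h hp)

include h hp in
theorem exists_vec_ne {r : ℕ} (hr : r < D.nroots) : vec D l r ≠ 0 := by
  intro h0
  obtain ⟨i, hi, h1⟩ := exists_rt_ne_zero h.checked hr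
  rw [hp.rank_eq] at hi
  exact h1 (congrFun h0 ⟨i, hi⟩)

include h in
/-- no root is `i θ + j r`, `i, j > 0`, `r` of grade `≥ 0` -/
theorem combZ_top {r : ℕ} (hr : r < D.nroots) (h0 : 0 ≤ rt D r (node D)) :
    combZ cs hp (vec D l (top D)) (vec D l r) = ∅ := by
  rw [Set.eq_empty_iff_forall_notMem]
  rintro z ⟨hz, i, j, hi, hj, e⟩
  obtain ⟨s, hs, rfl⟩ := (isRoot_iff hp cs z).1 hz
  have h1 := congrFun e (nd h hp)
  rw [Pi.add_apply, Pi.smul_apply, Pi.smul_apply, vec_nd, vec_nd, vec_nd, rt_top h, nsmul_eq_mul, nsmul_eq_mul] at h1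
  have h2 := rt_le h hs
  have hi' : (1 : ℤ) ≤ i := by exact_mod_cast hi
  have hj' : (1 : ℤ) ≤ j := by exact_mod_cast hj
  have h3 : (0 : ℤ) ≤ (j : ℤ) * rt D r (node D) := by positivity
  have h4 : (i : ℤ) = 1 := by omega
  have h5 : rt D s (node D) = 2 := by rw [h4] at h1; omega
  have h6 := eq_top h hs h5
  subst h6
  have h7 : i = 1 := by exact_mod_cast h4
  rw [h7, one_smul, left_eq_add, smul_eq_zero] at e
  rcases e with e | e
  · omega
  · exact exists_vec_ne h hp hr e

include hp in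
/-- `X_θ` centralises the root groups of grade `≥ 0` -/
theorem top_comm {r : ℕ} (hr : r < D.nroots) (h0 : 0 ≤ rt D r (node D)) (t u : F) :
    xg h (top D) t * xg h r u = xg h r u * xg h (top D) t := by
  by_cases hrt : r = top D
  · subst hrt
    rw [xg_add, xg_add, add_comm]
  · have h1 : vec D l (top D) ≠ vec D l r := fun e => hrt (vec_inj hp (top_lt h) hr e).symm
    have h2 : vec D l (top D) ≠ -vec D l r := by
      intro e
      have := congrFun e (nd h hp)
      rw [Pi.neg_apply, vec_nd, vec_nd, rt_top h] at this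
      omega
    have h3 := comm_mem_Z hp M.toCoxeterSystem (isRoot_vec hp _ (top_lt h)) (isRoot_vec hp _ hr) h1 h2
      (xg_mem_XX h hp (top_lt h) t) (xg_mem_XX h hp hr u)
    rw [combZ_top h hp M.toCoxeterSystem hr h0] at h3
    have h4 : RGD.Sup (XX D l F) (∅ : Set (Fin l → ℤ)) ≤ ⊥ := RGD.Sup_le fun a ha => absurd ha (Set.notMem_empty a)
    have h5 := Subgroup.mem_bot.1 (h4 h3)
    rwa [commutatorElement_eq_one_iff_mul_comm] at h5

/-- the subgroup generated by the root groups of grade `≥ 0` centralises `X_θ` -/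
theorem Sup_comm_top {S : Set (Fin l → ℤ)} (hS : ∀ a ∈ S, IsRoot cs hp.isCartan a ∧ 0 ≤ a (nd h hp)) {u : ↥(D.group F)}
    (hu : u ∈ RGD.Sup (XX D l F) S) (t : F) : u * xg h (top D) t = xg h (top D) t * u := by
  have h1 : RGD.Sup (XX D l F) S ≤ Subgroup.centralizer {xg h (top D) t} :=
    Sup_le_of h hp cs (fun a ha => (hS a ha).1) fun r hr hrS u => by
      rw [Subgroup.mem_centralizer_singleton_iff]
      exact (top_comm h hp hr (hS _ hrS).2 t u).symm
  exact Subgroup.mem_centralizer_singleton_iff.1 (h1 hu)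

theorem Sup_le_Fil {S : Set (Fin l → ℤ)} (hS : ∀ a ∈ S, IsRoot cs hp.isCartan a ∧ 0 ≤ a (nd h hp)) :
    RGD.Sup (XX D l F) S ≤ Fil D F :=
  Sup_le_of h hp cs (fun a ha => (hS a ha).1) fun r _ hrS u => xg_mem_Fil h (hS _ hrS).2 u

theorem Q1_le_Rad : Q1 h hp cs F ≤ Rad D F :=
  Sup_le_of h hp cs (fun a ha => ha.1) fun r _ hrS u => xg_mem_Rad h hrS.2 u

/-- `u hθ = hθ + (grade ≥ 1)` -/
theorem Sup_act_hT {S : Set (Fin l → ℤ)} (hS : ∀ a ∈ S, IsRoot cs hp.isCartan a ∧ 0 ≤ a (nd h hp))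
    {u : ↥(D.group F)} (hu : u ∈ RGD.Sup (XX D l F) S) : act u (hT D F) - hT D F ∈ Vge D F 1 := by
  let K : Subgroup ↥(D.group F) :=
    { carrier := {g | g ∈ Fil D F ∧ act g (hT D F) - hT D F ∈ Vge D F 1}
      mul_mem' := fun {g g'} hg hg' => ⟨mul_mem hg.1 hg'.1, by
        have e : act (g * g') (hT D F) - hT D F = act g (act g' (hT D F) - hT D F) + (act g (hT D F) - hT D F) := by
          rw [act_mul, act_sub]; abel
        rw [e]
        exact add_mem ((hg.1 1 _).2 hg'.2) hg.2⟩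
      one_mem' := ⟨one_mem _, by rw [act_one, sub_self]; exact zero_mem _⟩
      inv_mem' := fun {g} hg => ⟨inv_mem hg.1, by
        have e : act g⁻¹ (hT D F) - hT D F = -(act g⁻¹ (act g (hT D F) - hT D F)) := by
          rw [act_sub, act_inv_act]; abel
        rw [e]
        exact neg_mem ((inv_mem hg.1 1 _).2 hg.2)⟩ }
  have h1 : RGD.Sup (XX D l F) S ≤ K := Sup_le_of h hp cs (fun a ha => (hS a ha).1) fun r hr hrS t => by
    refine ⟨xg_mem_Fil h (hS _ hrS).2 t, ?_⟩
    rw [act_xg_hT h hr, sub_sub_cancel_left]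
    refine neg_mem ?_
    rcases (hS _ hrS).2.eq_or_lt with h2 | h2
    · rw [vec_nd] at h2
      rw [← h2]
      simp
    · exact Submodule.smul_mem _ _ (ev_mem_Vge h2)
  exact (h1 hu).2

include h in
/-- `U` fixes `e_θ` -/
theorem UU_act_top {u : ↥(D.group F)} (hu : u ∈ UU hp cs F) : act u (ev D F (top D)) = ev D F (top D) := by
  let K : Subgroup ↥(D.group F) :=
    { carrier := {g | act g (ev D F (top D)) = ev D F (top D)}
      mul_mem' := fun {g g'} hg hg' => by
        show act (g * g') _ = _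
        rw [act_mul, show act g' _ = _ from hg', show act g _ = _ from hg]
      one_mem' := act_one _
      inv_mem' := fun {g} hg => by
        show act g⁻¹ _ = _
        conv_lhs => rw [← show act g (ev D F (top D)) = ev D F (top D) from hg]
        rw [act_inv_act] }
  have h1 : UU hp cs F ≤ K := Sup_le_of h hp cs (fun a ha => ha.1) fun r hr hrS t => by
    show act (xg h r t) (ev D F (top D)) = ev D F (top D)
    funext a
    rw [act_xg, mulVec_ev _ (top_lt h)]
    by_contra hcon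
    have hne : (D.x F r t - 1) a (Sum.inr ⟨top D, top_lt h⟩) ≠ 0 := by
      intro h0
      rw [Matrix.sub_apply, sub_eq_zero] at h0
      apply hcon
      rw [h0, Matrix.one_apply]
      rcases a with i | v
      · rw [if_neg Sum.inl_ne_inr]; rfl
      · rw [ev_inr]
        by_cases hv : v.val = top D
        · rw [if_pos hv, if_pos]; congr 1; exact Fin.ext hv
        · rw [if_neg hv, if_neg]; intro e; exact hv (congrArg Fin.val (Sum.inr_injective e))
    obtain ⟨k, hk, h2⟩ := x_sub_one_support h.checked r t a _ hne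
    have h3 := h2 (node D)
    rw [wt_inr] at h3
    change wt D a (node D) = rt D (top D) (node D) + _ at h3
    rw [rt_top h] at h3
    have h4 : (0 : ℤ) ≤ rt D r (node D) := vec_nonneg h hp hrS.2
    have hk' : (1 : ℤ) ≤ k := by exact_mod_cast hk
    have h5 : (0 : ℤ) ≤ (k : ℤ) * rt D r (node D) := by positivity
    rcases a with i | v
    · rw [wt_inl] at h3; omega
    · rw [wt_inr] at h3
      have h6 := rt_le h v.2
      have h7 : v.val = top D := eq_top h v.2 (by omega)
      apply exists_vec_ne h hp hr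
      funext i
      have h8 := h2 i
      rw [wt_inr, wt_inr, h7] at h8
      have h9 : (k : ℤ) * rt D r i = 0 := by
        have : rt D (top D) (i : ℕ) = rt D (top D) i + (k : ℤ) * rt D r i := h8
        omega
      rcases mul_eq_zero.1 h9 with h10 | h10
      · omega
      · exact h10
  exact h1 hu

/-- positive roots have grade `≥ 0` -/
theorem pos_grade (a : Fin l → ℤ) (ha : a ∈ RGD.Pos cs hp.isCartan) : IsRoot cs hp.isCartan a ∧ 0 ≤ a (nd h hp) :=
  ⟨ha.1, ha.2 _⟩

theorem S1_grade (a : Fin l → ℤ) (ha : a ∈ S1 h hp cs) : IsRoot cs hp.isCartan a ∧ 0 ≤ a (nd h hp) :=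
  ⟨ha.1, zero_le_one.trans ha.2⟩

theorem Q1_le_UU : Q1 h hp cs F ≤ UU hp cs F := RGD.Sup_mono fun a ha => ⟨ha.1, by
  rcases ha.1.pos_or_neg with h1 | h1
  · exact h1
  · have h3 : a (nd h hp) ≤ 0 := h1 (nd h hp)
    have h2 := ha.2
    omega⟩

theorem S1_closed {a b : Fin l → ℤ} (ha : a ∈ S1 h hp cs) (hb : 0 ≤ b (nd h hp)) {z : Fin l → ℤ}
    (hz : z ∈ combZ cs hp a b) : z ∈ S1 h hp cs := by
  obtain ⟨hz, i, j, hi, hj, rfl⟩ := hz
  refine ⟨hz, ?_⟩
  rw [Pi.add_apply, Pi.smul_apply, Pi.smul_apply, nsmul_eq_mul, nsmul_eq_mul]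
  have hi' : (1 : ℤ) ≤ i := by exact_mod_cast hi
  have h1 : (0 : ℤ) ≤ (j : ℤ) * b (nd h hp) := by positivity
  have h2 := ha.2
  nlinarith

/-- a root element of grade `≥ 0` normalises `Q` -/
theorem xg_norm {r : ℕ} (hr : r < D.nroots) (h0 : 0 ≤ rt D r (node D)) (t : F) :
    xg h r t ∈ Subgroup.normalizer (Q1 h hp cs F : Set ↥(D.group F)) := by
  have key : ∀ t : F, ∀ y ∈ Q1 h hp cs F, xg h r t * y * (xg h r t)⁻¹ ∈ Q1 h hp cs F := by
    intro t
    have h1 : Q1 h hp cs F ≤ (Q1 h hp cs F).comap (MulAut.conj (xg h r t)).toMonoidHom := by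
      refine Sup_le_of h hp cs (fun a ha => ha.1) fun s hs hsS u => ?_
      show xg h r t * xg h s u * (xg h r t)⁻¹ ∈ Q1 h hp cs F
      have hs1 : xg h s u ∈ Q1 h hp cs F := RGD.le_Sup hsS (xg_mem_XX h hp hs u)
      by_cases hrs : vec D l s = vec D l r
      · have := vec_inj hp hs hr hrs
        subst this
        rw [xg_add, xg_inv, xg_add, show t + u + -t = u by ring]
        exact hs1
      · have h2 : vec D l s ≠ -vec D l r := by
          intro e
          have := congrFun e (nd h hp)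
          rw [Pi.neg_apply, vec_nd, vec_nd] at this
          have h3 : (1 : ℤ) ≤ rt D s (node D) := hsS.2
          omega
        have h3 := comm_mem_Z hp cs (isRoot_vec hp _ hs) (isRoot_vec hp _ hr) hrs h2
          (xg_mem_XX h hp hs (-u)) (xg_mem_XX h hp hr t)
        have h4 : ⁅xg h s (-u), xg h r t⁆ ∈ Q1 h hp cs F :=
          RGD.Sup_mono (fun z hz => S1_closed h hp cs hsS h0 hz) h3
        have e : xg h r t * xg h s u * (xg h r t)⁻¹ = xg h s u * ⁅xg h s (-u), xg h r t⁆ := by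
          rw [commutatorElement_def, ← xg_inv]; group
        rw [e]
        exact mul_mem hs1 h4
    exact fun y hy => h1 hy
  rw [Subgroup.mem_normalizer_iff]
  intro y
  refine ⟨key t y, fun hy => ?_⟩
  have h1 := key (-t) _ hy
  rw [← xg_inv, inv_inv] at h1
  have e : (xg h r t)⁻¹ * (xg h r t * y * (xg h r t)⁻¹) * xg h r t = y := by group
  rwa [e] at h1

theorem Sup_norm {S : Set (Fin l → ℤ)} (hS : ∀ a ∈ S, IsRoot cs hp.isCartan a ∧ 0 ≤ a (nd h hp)) :
    RGD.Sup (XX D l F) S ≤ Subgroup.normalizer (Q1 h hp cs F : Set ↥(D.group F)) :=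
  Sup_le_of h hp cs (fun a ha => (hS a ha).1) fun r hr hrS t => xg_norm h hp cs hr (hS _ hrS).2 t

end

end Cfsg.Agent.H818.StrP.UAct
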