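import Mathlib

/-!
# Fixed vectors of semilinear maps
-/

set_option autoImplicit false

namespace Cfsg.Agent.H818.StrP.Semi

/-- A set `N` of vectors fixed by the semilinear map `v ↦ (x ↦ C x φ (v (π x)))`, closed under addition and under the
scalars fixed by `φ`, contains every fixed vector of its linear span. -/
theorem mem_of_span {ι k : Type*} [Field k] (φ : k →+* k) (C : ι → k) (π : ι → ι) (N : Set (ι → k)) (h0 : 0 ∈ N)
    (hadd : ∀ a ∈ N, ∀ b ∈ N, a + b ∈ N) (hs : ∀ t, φ t = t → ∀ a ∈ N, t • a ∈ N)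
    (hN : ∀ a ∈ N, ∀ x, a x = C x * φ (a (π x))) {v : ι → k} (hv : ∀ x, v x = C x * φ (v (π x)))
    (hvN : v ∈ Submodule.span k N) : v ∈ N := by
  obtain ⟨b, hbN, hbs, hb⟩ := exists_linearIndependent k N
  rw [← hbs, ← Set.image_id b, Finsupp.mem_span_image_iff_linearCombination] at hvN
  obtain ⟨f, hf, hfv⟩ := hvN
  rw [Finsupp.linearCombination_apply, Finsupp.sum] at hfv
  have hfb : ∀ a ∈ f.support, a ∈ b := fun a ha => hf ha
  have h1 : ∑ a ∈ f.support, (f a - φ (f a)) • a = 0 := by
    funext x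
    rw [Finset.sum_apply, Pi.zero_apply]
    have h2 : v x = ∑ a ∈ f.support, f a * a x := by
      rw [← hfv, Finset.sum_apply]
      rfl
    have h3 : v x = ∑ a ∈ f.support, φ (f a) * a x := by
      rw [hv x, ← hfv, Finset.sum_apply, map_sum, Finset.mul_sum]
      refine Finset.sum_congr rfl fun a ha => ?_
      rw [Pi.smul_apply, id, smul_eq_mul, map_mul, hN a (hbN (hfb a ha)) x]
      ring
    have h4 : ∀ a ∈ f.support, ((f a - φ (f a)) • a) x = f a * a x - φ (f a) * a x := fun a _ => by
      rw [Pi.smul_apply, smul_eq_mul, sub_mul]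
    rw [Finset.sum_congr rfl h4, Finset.sum_sub_distrib, ← h2, ← h3, sub_self]
  have h5 : ∀ a ∈ f.support, φ (f a) = f a := by
    have hb' : LinearIndepOn k id b := hb
    have h6 : LinearIndepOn k id (f.support : Set (ι → k)) := hb'.mono fun a ha => hfb a ha
    rw [linearIndepOn_finset_iff] at h6
    intro a ha
    have h7 := h6 (fun a => f a - φ (f a)) h1 a ha
    exact (sub_eq_zero.1 h7).symm
  rw [← hfv]
  have key : ∀ s : Finset (ι → k), (∀ a ∈ s, a ∈ N ∧ φ (f a) = f a) → ∑ a ∈ s, f a • id a ∈ N := by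
    classical
    intro s
    induction s using Finset.induction_on with
    | empty => intro _; rw [Finset.sum_empty]; exact h0
    | insert a s ha ih =>
      intro h
      rw [Finset.sum_insert ha]
      have h8 := h a (Finset.mem_insert_self a s)
      exact hadd _ (hs _ h8.2 _ h8.1) _ (ih fun b hb => h b (Finset.mem_insert_of_mem hb))
  exact key _ fun a ha => ⟨hbN (hfb a ha), h5 a ha⟩

end Cfsg.Agent.H818.StrP.Semi
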