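import Cfsg.Agent.H818.StrP.UTau
import Cfsg.Agent.H818.StrP.Semi

/-!
# Theorem Z : subgroups of the finite exceptional groups containing a long root group and its opposite

`σ` a Frobenius automorphism of `D.group k` acting on the root elements by `x_s(t) ↦ x_{g s}(c t^q)`, `q = r ^ e ≥ 3`, `H` a
subgroup of fixed points containing the fixed points of `X_θ` and `X_{-θ}`, such that the subspace of the adjoint module
spanned by the vectors `η e_θ`, `η ∈ H`, contains all root vectors.  Then `H` contains the fixed points of the radical `Q` of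
the parabolic subgroup of `θ` (`Z_mem`) and of its opposite (`Z_mem_neg`).
-/

set_option autoImplicit false
set_option linter.unusedSectionVars false
set_option linter.unusedVariables false

namespace Cfsg.Agent.H818.StrP.UAct

open CoxeterSystem Cfsg Cfsg.Lie Cfsg.Lie.ChevalleyDatum
open Cfsg.Agent.ChevalleyStructure Cfsg.Agent.ChevalleyStructure.Elts Cfsg.Agent.ChevalleyStructure.CoxeterGeom
  Cfsg.Agent.ChevalleyStructure.CoxeterGeomTypes Cfsg.Agent.ChevalleyStructure.NPerm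
open Cfsg.Agent.Tits.Roots Cfsg.Agent.Tits.Core Cfsg.Agent.Nodes Cfsg.Agent.Nodes.Reps Cfsg.Agent.Nodes.BNOf
  Cfsg.Agent.Nodes.RGDChev Cfsg.Agent.Nodes.Bruhat Cfsg.Agent.Nodes.NormalForm
open Cfsg.Agent.KFacts.RgdField Cfsg.Agent.KFacts.RgdChevCoord
open Cfsg.Agent.BpExc Cfsg.Agent.BpExc.TorCent Cfsg.Agent.BpExc.TorChev Cfsg.Agent.BpExc.Tow
  Cfsg.Agent.BpExc.TowChev Cfsg.Agent.BpExc.Fr Cfsg.Agent.BpExc.LangFr Cfsg.Agent.GpExc.Field
  Cfsg.Agent.BpExc.NInst Cfsg.Agent.BpExc.NChev Cfsg.Agent.BpExc.CommZ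
open Cfsg.Agent.ChevalleyStructure.RootVec Cfsg.Agent.ChevalleyStructure.RootSupport
  Cfsg.Agent.ChevalleyStructure.XColumns Cfsg.Agent.ChevalleyStructure.HMatDiagAll Cfsg.Agent.H818.StrP.UTab
open scoped Matrix commutatorElement

universe u v

variable {D : ChevalleyDatum} {k : Type u} [Field k] (h : HiList D)

variable {l : ℕ} {M : CoxeterMatrix (Fin l)} (hp : IsType D l M) {W : Type v} [Group W] (cs : CoxeterSystem M W)

variable {h hp cs} {r e : ℕ} [Fact r.Prime] [CharP k r] {σ : MulAut ↥(D.group k)} {g : (Fin l → ℤ) ≃+ (Fin l → ℤ)}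
  {H : Subgroup ↥(D.group k)} (Z : ZHyp h hp cs (r ^ e) σ g H)

include Z

/-! ### the key step -/

/-- `Λ v = pr1 ((x_θ(1) - 1) v)` -/
def Lam (h : HiList D) : (D.Idx → k) →ₗ[k] (D.Idx → k) where
  toFun v := pr1 D k (act (xg h (top D) 1) v - v)
  map_add' v w := by
    rw [← map_add]
    congr 1
    rw [act_add]; abel
  map_smul' c v := by
    rw [RingHom.id_apply, ← map_smul]
    congr 1
    rw [act_smul, smul_sub]

omit Z in
theorem Lam_apply (v : D.Idx → k) : Lam h v = pr1 D k (act (xg h (top D) 1) v - v) := rfl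

/-- the linear span of `ρ(H ∩ Q)` -/
def NK (h : HiList D) (hp : IsType D l M) (cs : CoxeterSystem M W) (H : Subgroup ↥(D.group k)) :
    Submodule k (D.Idx → k) := Submodule.span k (rho '' (H ⊓ Q1 h hp cs k : Subgroup ↥(D.group k)))

omit Z in
theorem rho_mem_NK {z : ↥(D.group k)} (hz : z ∈ H) (hz' : z ∈ Q1 h hp cs k) : rho z ∈ NK h hp cs H :=
  Submodule.subset_span ⟨z, ⟨hz, hz'⟩, rfl⟩

/-- **Key step.** -/
theorem ZHyp.key [IsAlgClosed k] (hk : LocFin k) (hq : 3 ≤ r ^ e) {η : ↥(D.group k)} (hη : η ∈ H) :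
    Lam h (act η (ev D k (top D))) ∈ NK h hp cs H := by
  have := finite_W hp cs
  have Tw := tow (k := k) hp cs hk r
  have hTL := TL_eq (k := k) hp hk
  have hXL := XL_eq (k := k) hp hk
  have hG := GG_eq_top (k := k) hp cs hk
  obtain ⟨a, ha, haH, hτ⟩ := Z.exists_a hq
  obtain ⟨t, ht0, ht1, ht⟩ := exists_t (k := k) hq
  -- the fixed Bruhat form
  obtain ⟨u, hu, w, κ, hκ, v, hv, e1, hu', hκ', hv'⟩ := exists_fixed_form (g := g) (τ := σ) Tw hG
    (by rw [hTL, hXL]; exact fun a ha => sep hp cs hk r ha)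
    (by rw [hXL]; exact fun a b ha hb => XX_inj h hp cs ha hb)
    (by rw [hTL, hXL]; exact Z.fr) Z.gpos (Z.fix η hη)
  rw [hXL] at hu hv
  obtain ⟨s, hs, hsw, c, hc, h1⟩ := rp_ev h hp cs hk r hκ (top_lt h)
  have hcu : ∀ t, u * xg h (top D) t = xg h (top D) t * u := Sup_comm_top h hp cs (pos_grade h hp cs) hu
  have hcv : ∀ t, v * xg h (top D) t = xg h (top D) t * v := Sup_comm_top h hp cs (pos_grade h hp cs) hv
  have hF := Sup_le_Fil (F := k) h hp cs (pos_grade h hp cs) hu
  have h2 : act η (ev D k (top D)) = c • act u (ev D k s) := by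
    rw [e1, act_mul, act_mul, UU_act_top h hp cs hv, h1, act_smul]
  have h3 : Lam h (act u (ev D k s)) = pr1 D k (act u (act (xg h (top D) 1) (ev D k s) - ev D k s)) := by
    rw [Lam_apply, act_sub, ← act_mul, ← act_mul, hcu]
  rw [h2, map_smul]
  refine Submodule.smul_mem _ _ ?_
  rw [h3]
  -- `η x_θ(b) η⁻¹`
  have h4 : ∀ b, η * xg h (top D) b * η⁻¹ = u * (κ * xg h (top D) b * κ⁻¹) * u⁻¹ := by
    intro b
    have e2 : v * xg h (top D) b * v⁻¹ = xg h (top D) b := by rw [hcv, mul_inv_cancel_right]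
    calc η * xg h (top D) b * η⁻¹ = u * κ * (v * xg h (top D) b * v⁻¹) * κ⁻¹ * u⁻¹ := by rw [e1]; group
      _ = _ := by rw [e2]; group
  have hconj : ∀ y, y ∈ XX D l k (vec D l (top D)) ↔ κ * y * κ⁻¹ ∈ XX D l k (vec D l s) := by
    intro y
    have e3 := Tw.conj_rp hκ (isRoot_vec hp cs (top_lt h))
    rw [hXL, ← hsw] at e3
    rw [← e3]
    constructor
    · exact fun hy => conj_mem_cj.2 hy
    · intro hy
      have := mem_cj.1 hy
      have e4 : κ⁻¹ * (κ * y * κ⁻¹) * κ = y := by group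
      rwa [e4] at this
  by_cases hm0 : 0 ≤ rt D s (node D)
  · -- grade ≥ 0
    have h5 := act_xg_sub h (F := k) (r := top D) (m := 2) (by norm_num) (rt_top h).ge 1 (ev_mem_Vge (F := k) hm0)
    rw [zero_add] at h5
    rw [pr1_of_mem_two ((hF 2 _).2 h5)]
    exact zero_mem _
  push Not at hm0
  by_cases hm1 : rt D s (node D) = -1
  · -- grade -1
    obtain ⟨ε, hε, h5⟩ := act_top_ev (F := k) h hs hm1
    have h6 : act (xg h (top D) 1) (ev D k s) - ev D k s = ε • ev D k (tgt D s) := by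
      rw [h5, mul_one, add_sub_cancel_left]
    rw [h6, act_smul, map_smul]
    refine Submodule.smul_mem _ _ ?_
    obtain ⟨d, hd⟩ := (mem_XX h hp hs).1 ((hconj _).1 (xg_mem_XX h hp (top_lt h) a))
    have hd0 : d ≠ 0 := by
      rintro rfl
      rw [xg_zero, mul_inv_eq_one] at hd
      have h7 : xg h (top D) a = 1 := mul_eq_left.1 hd
      have h8 := congrArg (fun y : ↥(D.group k) => (y : GL D.Idx k)) h7
      exact ha ((xG_eq_one_iff h.inList (top_lt h) a).1 h8)
    obtain ⟨b, hb0, hb⟩ := comm_long (h := h) (hp := hp) (cs := cs) hs hsw hm1 ha hd0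
    obtain ⟨h7, h8⟩ := tgt_spec h hs hm1
    have h9 : rt D (tgt D s) (node D) = 1 := by rw [h8, hm1, rt_top h]; norm_num
    -- the element `z`
    set z := u * xg h (tgt D s) b * u⁻¹ with hz
    have hzH : z ∈ H := by
      have e5 : z = xg h (top D) a * (η * xg h (top D) a * η⁻¹) * (xg h (top D) a)⁻¹ *
          (η * xg h (top D) a * η⁻¹)⁻¹ := by
        have e6 : u⁻¹ * xg h (top D) a * u = xg h (top D) a := by rw [mul_assoc, ← hcu, inv_mul_cancel_left]
        have e7 : u⁻¹ * (xg h (top D) a)⁻¹ * u = (xg h (top D) a)⁻¹ := by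
          rw [xg_inv, mul_assoc, ← hcu, inv_mul_cancel_left]
        rw [h4, hd, hz, ← hb]
        calc u * (xg h (top D) a * xg h s d * (xg h (top D) a)⁻¹ * (xg h s d)⁻¹) * u⁻¹
            = u * ((u⁻¹ * xg h (top D) a * u) * xg h s d * (u⁻¹ * (xg h (top D) a)⁻¹ * u) * (xg h s d)⁻¹) * u⁻¹ := by
              rw [e6, e7]
          _ = _ := by group
      rw [e5]
      have h10 := mul_mem (mul_mem hη haH) (inv_mem hη)
      exact mul_mem (mul_mem (mul_mem haH h10) (inv_mem haH)) (inv_mem h10)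
    have hzQ : z ∈ Q1 h hp cs k :=
      (Subgroup.mem_normalizer_iff.1 (Sup_norm h hp cs (pos_grade h hp cs) hu) _).1
        (xg_mem_Q1 h hp cs h7 h9.ge b)
    have hρ : rho z = -(b • pr1 D k (act u (ev D k (tgt D s)))) := by
      have i1 := Sup_act_hT (F := k) h hp cs (pos_grade h hp cs) (inv_mem hu)
      obtain ⟨w₁, hw₁⟩ : ∃ w₁, w₁ = act u⁻¹ (hT D k) - hT D k := ⟨_, rfl⟩
      rw [← hw₁] at i1
      have i2 : act u⁻¹ (hT D k) = hT D k + w₁ := by rw [hw₁]; abel
      have i3 := act_xg_sub h (F := k) (r := tgt D s) (m := 1) zero_le_one h9.ge b i1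
      have i4 : act z (hT D k) = hT D k - b • act u (ev D k (tgt D s)) +
          act u (act (xg h (tgt D s) b) w₁ - w₁) := by
        have i5 : act u (hT D k) + act u w₁ = hT D k := by rw [← act_add, ← i2, act_act_inv]
        rw [hz, act_mul, act_mul, i2, act_add, act_xg_hT h h7, h9, Int.cast_one, one_mul, act_add, act_sub, act_smul,
          act_sub]
        calc act u (hT D k) - b • act u (ev D k (tgt D s)) + act u (act (xg h (tgt D s) b) w₁)
            = (act u (hT D k) + act u w₁) - b • act u (ev D k (tgt D s)) +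
              (act u (act (xg h (tgt D s) b) w₁) - act u w₁) := by abel
          _ = _ := by rw [i5]
      rw [rho, i4, map_add, map_sub, pr1_hT, map_smul, pr1_of_mem_two ((hF 2 _).2 i3), add_zero, zero_sub]
    have h10 := rho_mem_NK (h := h) (hp := hp) (cs := cs) hzH hzQ
    rw [hρ] at h10
    have h11 := Submodule.smul_mem _ (-b⁻¹) h10
    rw [smul_neg, neg_smul, _root_.neg_neg, smul_smul, inv_mul_cancel₀ hb0, one_smul] at h11
    exact h11
  · -- grade -2
    have hm2 : rt D s (node D) = -2 := by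
      have := le_rt h hs
      omega
    have hs0 := eq_zero h hs hm2
    subst hs0
    have h5 : act (xg h (top D) 1) (ev D k 0) - ev D k 0 = hT D k - ev D k (top D) := by
      rw [act_top_ev_zero, one_smul, one_pow, one_smul]; abel
    rw [h5, act_sub, map_sub, pr1_of_mem_two ((hF 2 _).2 (ev_mem_Vge (rt_top h).ge)), sub_zero]
    -- `u X_{-θ} u⁻¹ ≤ H`
    have h6 : ∀ d, σ (xg h 0 d) = xg h 0 d → u * xg h 0 d * u⁻¹ ∈ H := by
      intro d hd
      have h7 : κ * (κ⁻¹ * xg h 0 d * κ) * κ⁻¹ = xg h 0 d := by group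
      have h8 : κ⁻¹ * xg h 0 d * κ ∈ XX D l k (vec D l (top D)) := by
        rw [hconj, h7]
        exact xg_mem_XX h hp hs d
      obtain ⟨b, hb⟩ := (mem_XX h hp (top_lt h)).1 h8
      have h9 : σ (xg h (top D) b) = xg h (top D) b := by
        rw [← hb, map_mul, map_mul, map_inv, hκ', hd]
      have h10 := h4 b
      rw [← hb, h7] at h10
      rw [← h10, hb]
      exact mul_mem (mul_mem hη (Z.root b h9)) (inv_mem hη)
    have h7 : ∀ t, t ≠ 0 → t ^ r ^ e = t → u * ng h (a * t) * u⁻¹ ∈ H := by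
      intro t ht0 ht
      obtain ⟨-, -, h8, h9⟩ := hτ t ht0 ht
      have h10 : u * xg h (top D) (a * t) * u⁻¹ ∈ H := by
        rw [hcu, mul_inv_cancel_right]
        exact Z.root _ h8
      have e5 : u * ng h (a * t) * u⁻¹ = (u * xg h (top D) (a * t) * u⁻¹) * ((u * xg h 0 (-(a * t)⁻¹) * u⁻¹) *
          (u * xg h (top D) (a * t) * u⁻¹)) := by
        rw [ng_eq]; group
      rw [e5]
      exact mul_mem h10 (mul_mem (h6 _ h9) h10)
    have h8 : u * tau h a t * u⁻¹ * (tau h a t)⁻¹ ∈ H := by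
      refine mul_mem ?_ (inv_mem (hτ t ht0 ht).2.1)
      have h9 := h7 1 one_ne_zero (one_pow _)
      rw [mul_one] at h9
      have e5 : u * tau h a t * u⁻¹ = (u * ng h (a * t) * u⁻¹) * (u * ng h a * u⁻¹)⁻¹ := by
        rw [tau_eq]; group
      rw [e5]
      exact mul_mem (h7 t ht0 ht) (inv_mem h9)
    have h9 := rho_mem_NK (h := h) (hp := hp) (cs := cs) h8 (comm_tau (h := h) ha ht0 hu)
    rw [rho_comm_tau (h := h) (hp := hp) (cs := cs) ha ht0 hu] at h9
    have h10 := Submodule.smul_mem _ (1 - t)⁻¹ h9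
    rw [smul_smul, inv_mul_cancel₀ (sub_ne_zero.2 (Ne.symm ht1)), one_smul] at h10
    exact h10

end Cfsg.Agent.H818.StrP.UAct
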