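import Cfsg.Agent.H818.StrP.UTab
import Cfsg.Agent.BpExc.NChev
import Cfsg.Agent.ChevalleyStructure.RootSupport
import Cfsg.Agent.ChevalleyStructure.XColumns

/-!
# The adjoint module and the grading by the highest root

`act g v` : the action of `D.group F` on `V = D.Idx → F`.  `gr D a = ⟨wt a, θ^∨⟩ ∈ {-2, …, 2}`, `Vge D F j` the sum of
the weight spaces of grade `≥ j`; `Fil` : the stabiliser of the filtration, `Rad` : trivial on the quotients.
`hθ = corv D F (top D)` the coroot vector of `θ`.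
-/

set_option autoImplicit false
set_option linter.unusedSectionVars false

namespace Cfsg.Agent.H818.StrP.UAct

open CoxeterSystem Cfsg Cfsg.Lie Cfsg.Lie.ChevalleyDatum
open Cfsg.Agent.ChevalleyStructure Cfsg.Agent.ChevalleyStructure.Elts Cfsg.Agent.ChevalleyStructure.CoxeterGeom
  Cfsg.Agent.ChevalleyStructure.CoxeterGeomTypes Cfsg.Agent.ChevalleyStructure.NPerm
open Cfsg.Agent.Tits.Roots Cfsg.Agent.Tits.Core Cfsg.Agent.Nodes Cfsg.Agent.Nodes.Reps Cfsg.Agent.Nodes.BNOf
  Cfsg.Agent.Nodes.RGDChev Cfsg.Agent.Nodes.Bruhat Cfsg.Agent.Nodes.NormalForm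
open Cfsg.Agent.KFacts.RgdField Cfsg.Agent.KFacts.RgdChevCoord
open Cfsg.Agent.ChevalleyStructure.RootVec Cfsg.Agent.ChevalleyStructure.RootSupport
  Cfsg.Agent.ChevalleyStructure.XColumns Cfsg.Agent.H818.StrP.UTab
open scoped Matrix commutatorElement

universe u

variable {D : ChevalleyDatum} {F : Type u} [Field F]

/-! ### the action -/

/-- the action on the adjoint module -/
def act (g : ↥(D.group F)) (v : D.Idx → F) : D.Idx → F := ((g : GL D.Idx F) : Matrix D.Idx D.Idx F).mulVec v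

theorem act_def (g : ↥(D.group F)) (v : D.Idx → F) :
    act g v = ((g : GL D.Idx F) : Matrix D.Idx D.Idx F).mulVec v := rfl

theorem act_mul (g h : ↥(D.group F)) (v : D.Idx → F) : act (g * h) v = act g (act h v) := by
  rw [act_def, act_def, act_def, Subgroup.coe_mul, Units.val_mul, Matrix.mulVec_mulVec]

theorem act_one (v : D.Idx → F) : act (1 : ↥(D.group F)) v = v := by
  rw [act_def, Subgroup.coe_one, Units.val_one, Matrix.one_mulVec]

theorem act_add (g : ↥(D.group F)) (v w : D.Idx → F) : act g (v + w) = act g v + act g w := Matrix.mulVec_add _ _ _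

theorem act_sub (g : ↥(D.group F)) (v w : D.Idx → F) : act g (v - w) = act g v - act g w := Matrix.mulVec_sub _ _ _

theorem act_smul (g : ↥(D.group F)) (c : F) (v : D.Idx → F) : act g (c • v) = c • act g v :=
  Matrix.mulVec_smul _ _ _

theorem act_zero (g : ↥(D.group F)) : act g (0 : D.Idx → F) = 0 := Matrix.mulVec_zero _

theorem act_neg (g : ↥(D.group F)) (v : D.Idx → F) : act g (-v) = -act g v := Matrix.mulVec_neg _ _

theorem act_inv_act (g : ↥(D.group F)) (v : D.Idx → F) : act g⁻¹ (act g v) = v := by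
  rw [← act_mul, inv_mul_cancel, act_one]

theorem act_act_inv (g : ↥(D.group F)) (v : D.Idx → F) : act g (act g⁻¹ v) = v := by
  rw [← act_mul, mul_inv_cancel, act_one]

/-! ### the grading -/

/-- the grade -/
def gr (D : ChevalleyDatum) (a : D.Idx) : ℤ := wt D a (node D)

@[simp] theorem gr_inl (i : Fin D.rank) : gr D (Sum.inl i) = 0 := rfl

@[simp] theorem gr_inr (s : Fin D.nroots) : gr D (Sum.inr s) = rt D s.val (node D) := rfl

/-- the sum of the weight spaces of grade `≥ j` -/
def Vge (D : ChevalleyDatum) (F : Type u) [Field F] (j : ℤ) : Submodule F (D.Idx → F) where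
  carrier := {v | ∀ a, gr D a < j → v a = 0}
  add_mem' := fun {v w} hv hw a ha => by
    rw [Pi.add_apply, hv a ha, hw a ha, add_zero]
  zero_mem' := fun a _ => rfl
  smul_mem' := fun c v hv a ha => by
    rw [Pi.smul_apply, hv a ha, smul_zero]

theorem mem_Vge {j : ℤ} {v : D.Idx → F} : v ∈ Vge D F j ↔ ∀ a, gr D a < j → v a = 0 := Iff.rfl

theorem Vge_anti {j j' : ℤ} (h : j ≤ j') : Vge D F j' ≤ Vge D F j := fun _ hv a ha => hv a (lt_of_lt_of_le ha h)

theorem ev_mem_Vge {s : ℕ} {j : ℤ} (hj : j ≤ rt D s (node D)) : ev D F s ∈ Vge D F j := by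
  intro a ha
  rcases a with i | v
  · rfl
  · rw [ev_inr, if_neg]
    rintro h
    rw [gr_inr, h] at ha
    omega

theorem corv_mem_Vge (r : ℕ) : corv D F r ∈ Vge D F 0 := by
  intro a ha
  rcases a with i | v
  · rw [gr_inl] at ha; omega
  · rfl

/-- the stabiliser of the filtration -/
def Fil (D : ChevalleyDatum) (F : Type u) [Field F] : Subgroup ↥(D.group F) where
  carrier := {g | ∀ j v, act g v ∈ Vge D F j ↔ v ∈ Vge D F j}
  mul_mem' := fun {g h} hg hh j v => by rw [act_mul, hg, hh]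
  one_mem' := fun j v => by rw [act_one]
  inv_mem' := fun {g} hg j v => by rw [← hg j, act_act_inv]

theorem mem_Fil {g : ↥(D.group F)} : g ∈ Fil D F ↔ ∀ j v, act g v ∈ Vge D F j ↔ v ∈ Vge D F j := Iff.rfl

/-- the elements acting trivially on the quotients of the filtration -/
def Rad (D : ChevalleyDatum) (F : Type u) [Field F] : Subgroup ↥(D.group F) where
  carrier := {g | g ∈ Fil D F ∧ ∀ j, ∀ v ∈ Vge D F j, act g v - v ∈ Vge D F (j + 1)}
  mul_mem' := fun {g h} hg hh => ⟨mul_mem hg.1 hh.1, fun j v hv => by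
    have e : act (g * h) v - v = (act g (act h v) - act h v) + (act h v - v) := by rw [act_mul]; abel
    rw [e]
    exact add_mem (hg.2 j _ ((hh.1 j v).2 hv)) (hh.2 j v hv)⟩
  one_mem' := ⟨one_mem _, fun j v _ => by rw [act_one, sub_self]; exact zero_mem _⟩
  inv_mem' := fun {g} hg => ⟨inv_mem hg.1, fun j v hv => by
    have h1 : act g⁻¹ v ∈ Vge D F j := (inv_mem hg.1 j v).2 hv
    have e : act g⁻¹ v - v = -(act g (act g⁻¹ v) - act g⁻¹ v) := by rw [act_act_inv]; abel
    rw [e]
    exact neg_mem (hg.2 j _ h1)⟩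

theorem Rad_le_Fil : Rad D F ≤ Fil D F := fun _ h => h.1

section

variable (h : HiList D)

/-- the root elements -/
def xg (h : HiList D) (r : ℕ) (t : F) : ↥(D.group F) := ⟨xG h.inList r t, xG_mem_group h.inList r t⟩

theorem coe_xg (r : ℕ) (t : F) : ((xg h r t : ↥(D.group F)) : GL D.Idx F) = xG h.inList r t := rfl

theorem act_xg (r : ℕ) (t : F) (v : D.Idx → F) : act (xg h r t) v = (D.x F r t).mulVec v := by
  rw [act_def, coe_xg, coe_xG]

theorem xg_add (r : ℕ) (t u : F) : xg h r t * xg h r u = xg h r (t + u) := Subtype.ext (xG_add h.inList _ _ _)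

theorem xg_zero (r : ℕ) : xg h r (0 : F) = 1 := Subtype.ext (xG_zero h.inList _)

theorem xg_inv (r : ℕ) (t : F) : (xg h r t)⁻¹ = xg h r (-t) := Subtype.ext (xG_inv h.inList _ _)

/-- `x_r(t) - 1` raises the grade by the grade of `r` -/
theorem act_xg_sub {r : ℕ} {m : ℤ} (hm : 0 ≤ m) (hr : m ≤ rt D r (node D)) (t : F) {j : ℤ} {v : D.Idx → F}
    (hv : v ∈ Vge D F j) : act (xg h r t) v - v ∈ Vge D F (j + m) := by
  intro a ha
  have e : act (xg h r t) v - v = (D.x F r t - 1).mulVec v := by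
    rw [Matrix.sub_mulVec, Matrix.one_mulVec, act_xg]
  rw [e]
  show ∑ b, (D.x F r t - 1) a b * v b = 0
  refine Finset.sum_eq_zero fun b _ => ?_
  by_cases h0 : (D.x F r t - 1) a b = 0
  · rw [h0, zero_mul]
  · obtain ⟨k, hk, h1⟩ := x_sub_one_support h.checked r t a b h0
    have h2 := h1 (node D)
    have h3 : gr D a = gr D b + (k : ℤ) * rt D r (node D) := h2
    rw [hv b, mul_zero]
    have h4 : (1 : ℤ) ≤ k := by exact_mod_cast hk
    nlinarith

theorem xg_mem_Fil {r : ℕ} (hr : 0 ≤ rt D r (node D)) (t : F) : xg h r t ∈ Fil D F := by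
  have key : ∀ (t : F) (j : ℤ) (v : D.Idx → F), v ∈ Vge D F j → act (xg h r t) v ∈ Vge D F j := by
    intro t j v hv
    have h1 := act_xg_sub h le_rfl hr t hv
    rw [add_zero] at h1
    have e : act (xg h r t) v = (act (xg h r t) v - v) + v := by abel
    rw [e]
    exact add_mem h1 hv
  intro j v
  refine ⟨fun hv => ?_, key t j v⟩
  have h1 := key (-t) j _ hv
  rwa [← xg_inv, act_inv_act] at h1

theorem xg_mem_Rad {r : ℕ} (hr : 1 ≤ rt D r (node D)) (t : F) : xg h r t ∈ Rad D F :=
  ⟨xg_mem_Fil h (by omega) t, fun _ _ hv => act_xg_sub h zero_le_one hr t hv⟩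

/-! ### the coroot vector of `θ` -/

/-- the coroot vector of `θ` -/
def hT (D : ChevalleyDatum) (F : Type u) [Field F] : D.Idx → F := corv D F (top D)

theorem hT_mem : hT D F ∈ Vge D F 0 := corv_mem_Vge _

theorem corv_eq (r : ℕ) : corv D F r = ∑ i ∈ Finset.range D.rank, ((co D r i : ℤ) : F) • hv D F i := by
  funext a
  rw [Finset.sum_apply]
  rcases a with i | s
  · rw [corv_inl, Finset.sum_eq_single i.val]
    · simp [co_def]
    · intro b _ hb
      simp [hb.symm]
    · intro hi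
      exact absurd (Finset.mem_range.2 i.2) hi
  · rw [corv_inr]
    symm
    refine Finset.sum_eq_zero fun i _ => ?_
    simp

/-- `x_r(t) hθ = hθ - ⟨r, θ^∨⟩ t e_r` -/
theorem act_xg_hT {r : ℕ} (hr : r < D.nroots) (t : F) :
    act (xg h r t) (hT D F) = hT D F - (((rt D r (node D) : ℤ) : F) * t) • ev D F r := by
  rw [act_xg, hT, corv_eq, Matrix.mulVec_sum]
  have h1 : ∀ i ∈ Finset.range D.rank, (D.x F r t).mulVec (((co D (top D) i : ℤ) : F) • hv D F i) =
      ((co D (top D) i : ℤ) : F) • hv D F i - (((co D (top D) i * D.cartan i r : ℤ) : F) * t) • ev D F r := by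
    intro i hi
    rw [Matrix.mulVec_smul, x_mulVec_hv hr (Finset.mem_range.1 hi), smul_sub, smul_smul]
    congr 2
    push_cast
    ring
  rw [Finset.sum_congr rfl h1, Finset.sum_sub_distrib, ← Finset.sum_smul, ← Finset.sum_mul, ← Int.cast_sum,
    pair h hr]

/-! ### the projection to grade 1 -/

/-- the grade 1 part -/
def pr1 (D : ChevalleyDatum) (F : Type u) [Field F] : (D.Idx → F) →ₗ[F] (D.Idx → F) where
  toFun v a := if gr D a = 1 then v a else 0
  map_add' v w := by
    funext a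
    by_cases ha : gr D a = 1 <;> simp [ha]
  map_smul' c v := by
    funext a
    by_cases ha : gr D a = 1 <;> simp [ha]

theorem pr1_apply (v : D.Idx → F) (a : D.Idx) : pr1 D F v a = if gr D a = 1 then v a else 0 := rfl

theorem pr1_of_mem_two {v : D.Idx → F} (hv : v ∈ Vge D F 2) : pr1 D F v = 0 := by
  funext a
  rw [pr1_apply]
  split_ifs with ha
  · exact hv a (by omega)
  · rfl

theorem pr1_hT : pr1 D F (hT D F) = 0 := by
  funext a
  rw [pr1_apply]
  split_ifs with ha
  · rcases a with i | s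
    · rw [gr_inl] at ha; omega
    · rfl
  · rfl

theorem pr1_ev {s : ℕ} (hs : rt D s (node D) = 1) : pr1 D F (ev D F s) = ev D F s := by
  funext a
  rw [pr1_apply]
  split_ifs with ha
  · rfl
  · rcases a with i | v
    · rfl
    · rw [ev_inr, if_neg]
      rintro h
      rw [gr_inr, h] at ha
      exact ha hs

theorem pr1_mem (v : D.Idx → F) : pr1 D F v ∈ Vge D F 1 := by
  intro a ha
  rw [pr1_apply, if_neg (by omega)]

/-- for `g ∈ Fil`, `w` of grade `≥ 1`: `pr1 (g w)` depends on `w` modulo grade `≥ 2` -/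
theorem pr1_act_congr {g : ↥(D.group F)} (hg : g ∈ Fil D F) {v w : D.Idx → F} (hvw : v - w ∈ Vge D F 2) :
    pr1 D F (act g v) = pr1 D F (act g w) := by
  rw [← sub_eq_zero, ← map_sub, ← act_sub]
  exact pr1_of_mem_two ((hg 2 _).2 hvw)

theorem pr1_act_Rad {g : ↥(D.group F)} (hg : g ∈ Rad D F) {w : D.Idx → F} (hw : w ∈ Vge D F 1) :
    pr1 D F (act g w) = pr1 D F w := by
  rw [← sub_eq_zero, ← map_sub]
  exact pr1_of_mem_two (hg.2 1 w hw)

/-- `ρ g` -/
def rho (g : ↥(D.group F)) : D.Idx → F := pr1 D F (act g (hT D F))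

theorem rho_one : rho (1 : ↥(D.group F)) = 0 := by
  rw [rho, act_one, pr1_hT]

theorem rho_mul {g g' : ↥(D.group F)} (hg : g ∈ Rad D F) (hg' : g' ∈ Rad D F) :
    rho (g * g') = rho g + rho g' := by
  have h1 := hg'.2 0 _ (hT_mem (D := D) (F := F))
  rw [zero_add] at h1
  have e : act (g * g') (hT D F) = act g (hT D F) + act g (act g' (hT D F) - hT D F) := by
    rw [act_mul, act_sub]; abel
  rw [rho, e, map_add, pr1_act_Rad hg h1, map_sub, pr1_hT, sub_zero]
  rfl

theorem rho_inv {g : ↥(D.group F)} (hg : g ∈ Rad D F) : rho g⁻¹ = - rho g := by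
  have h1 := rho_mul (inv_mem hg) hg
  rw [inv_mul_cancel, rho_one] at h1
  exact eq_neg_of_add_eq_zero_left h1.symm

/-- `ρ (x_r(t))` for `r` of grade 1 -/
theorem rho_xg {r : ℕ} (hr : r < D.nroots) (h1 : rt D r (node D) = 1) (t : F) :
    rho (xg h r t) = -(t • ev D F r) := by
  rw [rho, act_xg_hT h hr, h1, map_sub, pr1_hT, map_smul, pr1_ev h1, zero_sub]
  norm_num

/-- `ρ (x_θ(t)) = 0` -/
theorem rho_xg_top (t : F) : rho (xg h (top D) t) = 0 := by
  rw [rho, act_xg_hT h (top_lt h), map_sub, pr1_hT, map_smul, zero_sub, neg_eq_zero, smul_eq_zero]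
  right
  exact pr1_of_mem_two (ev_mem_Vge (rt_top h).ge)

end

end Cfsg.Agent.H818.StrP.UAct
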