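import Cfsg.Agent.H818.StrP.UAct2

/-!
# The kernel of `ρ` on the radical `Q` of the parabolic subgroup of `θ` is `X_θ`
-/

set_option autoImplicit false
set_option linter.unusedSectionVars false
set_option linter.unusedVariables false

namespace Cfsg.Agent.H818.StrP.UAct

open CoxeterSystem Cfsg Cfsg.Lie Cfsg.Lie.ChevalleyDatum
open Cfsg.Agent.ChevalleyStructure Cfsg.Agent.ChevalleyStructure.Elts Cfsg.Agent.ChevalleyStructure.CoxeterGeom
  Cfsg.Agent.ChevalleyStructure.CoxeterGeomTypes Cfsg.Agent.ChevalleyStructure.NPerm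
open Cfsg.Agent.Tits.Roots Cfsg.Agent.Tits.Core Cfsg.Agent.Nodes Cfsg.Agent.Nodes.Reps Cfsg.Agent.Nodes.BNOf
  Cfsg.Agent.Nodes.RGDChev Cfsg.Agent.Nodes.Bruhat Cfsg.Agent.Nodes.NormalForm
open Cfsg.Agent.KFacts.RgdField Cfsg.Agent.KFacts.RgdChevCoord
open Cfsg.Agent.BpExc.Tow Cfsg.Agent.BpExc.TowChev Cfsg.Agent.BpExc.CommZ
open Cfsg.Agent.ChevalleyStructure.RootVec Cfsg.Agent.ChevalleyStructure.RootSupport
  Cfsg.Agent.ChevalleyStructure.XColumns Cfsg.Agent.ChevalleyStructure.HMatDiagAll Cfsg.Agent.H818.StrP.UTab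
open scoped Matrix commutatorElement

universe u

variable {D : ChevalleyDatum} {F : Type u} [Field F] (h : HiList D)
  {l : ℕ} {M : CoxeterMatrix (Fin l)} (hp : IsType D l M) {W : Type*} [Group W] (cs : CoxeterSystem M W)

/-- elements of `Q` commute with `X_θ` -/
theorem Q1_comm_top {u : ↥(D.group F)} (hu : u ∈ Q1 h hp cs F) (t : F) :
    u * xg h (top D) t = xg h (top D) t * u := Sup_comm_top h hp cs (S1_grade h hp cs) hu t

theorem xg_mem_Q1 {r : ℕ} (hr : r < D.nroots) (h1 : 1 ≤ rt D r (node D)) (t : F) : xg h r t ∈ Q1 h hp cs F :=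
  RGD.le_Sup (X := XX D l F) (S := S1 h hp cs) ⟨isRoot_vec hp cs hr, h1⟩ (xg_mem_XX h hp hr t)

theorem top_mem_Q1 (t : F) : xg h (top D) t ∈ Q1 h hp cs F :=
  xg_mem_Q1 h hp cs (top_lt h) (by rw [rt_top h]; norm_num) t

include hp cs in
/-- root elements of grade `≥ 1` commute modulo `X_θ` -/
theorem xg_comm {r s : ℕ} (hr : r < D.nroots) (hs : s < D.nroots) (hr1 : 1 ≤ rt D r (node D))
    (hs1 : 1 ≤ rt D s (node D)) (a b : F) : ∃ t, xg h r a * xg h s b = xg h s b * xg h r a * xg h (top D) t := by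
  by_cases hrs : r = s
  · subst hrs
    exact ⟨0, by rw [xg_add, xg_add, xg_zero, mul_one, add_comm]⟩
  · have h1 : vec D l r ≠ vec D l s := fun e => hrs (vec_inj hp hr hs e)
    have h2 : vec D l r ≠ -vec D l s := by
      intro e
      have := congrFun e (nd h hp)
      rw [Pi.neg_apply, vec_nd, vec_nd] at this
      omega
    have h3 := comm_mem_Z hp cs (isRoot_vec hp _ hr) (isRoot_vec hp _ hs) h1 h2 (xg_mem_XX h hp hr (-a))
      (xg_mem_XX h hp hs (-b))
    have h4 : RGD.Sup (XX D l F) (combZ cs hp (vec D l r) (vec D l s)) ≤ XX D l F (vec D l (top D)) := by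
      refine Sup_le_of h hp cs (fun z hz => hz.1) fun v hv hvS u => ?_
      obtain ⟨-, i, j, hi, hj, e⟩ := hvS
      have h5 := congrFun e (nd h hp)
      rw [Pi.add_apply, Pi.smul_apply, Pi.smul_apply, vec_nd, vec_nd, vec_nd, nsmul_eq_mul, nsmul_eq_mul] at h5
      have hi' : (1 : ℤ) ≤ i := by exact_mod_cast hi
      have hj' : (1 : ℤ) ≤ j := by exact_mod_cast hj
      have h6 := rt_le h hv
      have h7 : rt D v (node D) = 2 := by nlinarith
      rw [eq_top h hv h7]
      exact xg_mem_XX h hp (top_lt h) u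
    obtain ⟨t, ht⟩ := (mem_XX h hp (top_lt h)).1 (h4 h3)
    refine ⟨t, ?_⟩
    rw [← ht, commutatorElement_def, ← xg_inv, ← xg_inv]
    group

/-- `[Q, Q] ≤ X_θ` -/
theorem Q1_comm {x y : ↥(D.group F)} (hx : x ∈ Q1 h hp cs F) (hy : y ∈ Q1 h hp cs F) :
    ∃ t, x * y = y * x * xg h (top D) t := by
  -- a subgroup
  have mk : ∀ y ∈ Q1 h hp cs F, ∃ K : Subgroup ↥(D.group F), ∀ x, x ∈ K ↔
      x ∈ Q1 h hp cs F ∧ ∃ t, x * y = y * x * xg h (top D) t := by
    intro y hy
    refine ⟨
      { carrier := {x | x ∈ Q1 h hp cs F ∧ ∃ t, x * y = y * x * xg h (top D) t}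
        mul_mem' := ?_
        one_mem' := ⟨one_mem _, 0, by rw [xg_zero, mul_one, mul_one, one_mul]⟩
        inv_mem' := ?_ }, fun x => Iff.rfl⟩
    · rintro a b ⟨ha, t, h1⟩ ⟨hb, u, h2⟩
      refine ⟨mul_mem ha hb, t + u, ?_⟩
      calc a * b * y = a * (b * y) := by group
        _ = a * (y * b * xg h (top D) u) := by rw [h2]
        _ = (a * y) * b * xg h (top D) u := by group
        _ = y * a * (xg h (top D) t * b) * xg h (top D) u := by rw [h1]; group
        _ = y * a * (b * xg h (top D) t) * xg h (top D) u := by rw [Q1_comm_top h hp cs hb]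
        _ = y * (a * b) * (xg h (top D) t * xg h (top D) u) := by group
        _ = _ := by rw [xg_add]
    · rintro a ⟨ha, t, h1⟩
      refine ⟨inv_mem ha, -t, ?_⟩
      have h2 : y * a = a * y * xg h (top D) (-t) := by
        rw [h1, mul_assoc, xg_add, add_neg_cancel, xg_zero, mul_one]
      calc a⁻¹ * y = a⁻¹ * (y * a) * a⁻¹ := by group
        _ = a⁻¹ * (a * y * xg h (top D) (-t)) * a⁻¹ := by rw [h2]
        _ = y * (xg h (top D) (-t) * a⁻¹) := by group
        _ = y * (a⁻¹ * xg h (top D) (-t)) := by rw [Q1_comm_top h hp cs (inv_mem ha)]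
        _ = _ := by group
  have symm : ∀ {x y : ↥(D.group F)}, x ∈ Q1 h hp cs F → (∃ t, x * y = y * x * xg h (top D) t) →
      ∃ t, y * x = x * y * xg h (top D) t := by
    rintro x y hx ⟨t, h1⟩
    exact ⟨-t, by rw [h1, mul_assoc, xg_add, add_neg_cancel, xg_zero, mul_one]⟩
  have h1 : ∀ s < D.nroots, 1 ≤ rt D s (node D) → ∀ b x, x ∈ Q1 h hp cs F →
      ∃ t, x * xg h s b = xg h s b * x * xg h (top D) t := by
    intro s hs hs1 b x hx
    obtain ⟨K, hK⟩ := mk (xg h s b) (xg_mem_Q1 h hp cs hs hs1 b)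
    have h2 : Q1 h hp cs F ≤ K := Sup_le_of h hp cs (fun a ha => ha.1) fun r hr hrS a => (hK _).2
      ⟨xg_mem_Q1 h hp cs hr hrS.2 a, xg_comm h hp cs hr hs hrS.2 hs1 a b⟩
    exact ((hK x).1 (h2 hx)).2
  obtain ⟨K, hK⟩ := mk x hx
  have h2 : Q1 h hp cs F ≤ K := Sup_le_of h hp cs (fun a ha => ha.1) fun r hr hrS a => (hK _).2
    ⟨xg_mem_Q1 h hp cs hr hrS.2 a, symm hx (h1 r hr hrS.2 a x hx)⟩
  exact symm hy ((hK y).1 (h2 hy)).2

/-! ### ordered products -/

/-- `∏ x_s(c_s)` over a list -/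
def PL (h : HiList D) (c : ℕ → F) (L : List ℕ) : ↥(D.group F) := (L.map fun s => xg h s (c s)).prod

theorem PL_nil (c : ℕ → F) : PL h c [] = 1 := rfl

theorem PL_cons (c : ℕ → F) (s : ℕ) (L : List ℕ) : PL h c (s :: L) = xg h s (c s) * PL h c L := by
  rw [PL, List.map_cons, List.prod_cons]; rfl

theorem PL_mem (c : ℕ → F) {L : List ℕ} (hL : ∀ s ∈ L, s < D.nroots ∧ rt D s (node D) = 1) :
    PL h c L ∈ Q1 h hp cs F := by
  induction L with
  | nil => exact one_mem _
  | cons s L ih =>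
    rw [PL_cons]
    have h1 := hL s List.mem_cons_self
    exact mul_mem (xg_mem_Q1 h hp cs h1.1 h1.2.ge _) (ih fun s hs => hL s (List.mem_cons_of_mem _ hs))

include hp cs in
theorem PL_mul (c d : ℕ → F) {L : List ℕ} (hL : ∀ s ∈ L, s < D.nroots ∧ rt D s (node D) = 1) :
    ∃ t, PL h c L * PL h d L = PL h (fun s => c s + d s) L * xg h (top D) t := by
  induction L with
  | nil => exact ⟨0, by rw [PL_nil, PL_nil, PL_nil, xg_zero, one_mul]⟩
  | cons s L ih =>
    have hs := hL s List.mem_cons_self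
    have hL' : ∀ s ∈ L, s < D.nroots ∧ rt D s (node D) = 1 := fun s hs => hL s (List.mem_cons_of_mem _ hs)
    obtain ⟨t, ht⟩ := ih hL'
    obtain ⟨u, hu⟩ := Q1_comm h hp cs (PL_mem h hp cs c hL') (xg_mem_Q1 h hp cs hs.1 hs.2.ge (d s))
    refine ⟨t + u, ?_⟩
    rw [PL_cons, PL_cons, PL_cons]
    calc xg h s (c s) * PL h c L * (xg h s (d s) * PL h d L)
        = xg h s (c s) * (PL h c L * xg h s (d s)) * PL h d L := by group
      _ = xg h s (c s) * xg h s (d s) * PL h c L * (xg h (top D) u * PL h d L) := by rw [hu]; group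
      _ = xg h s (c s) * xg h s (d s) * PL h c L * (PL h d L * xg h (top D) u) := by
        rw [Q1_comm_top h hp cs (PL_mem h hp cs d hL')]
      _ = xg h s (c s) * xg h s (d s) * (PL h c L * PL h d L) * xg h (top D) u := by group
      _ = xg h s (c s + d s) * PL h (fun s => c s + d s) L * (xg h (top D) t * xg h (top D) u) := by
        rw [ht, xg_add]; group
      _ = _ := by rw [xg_add]

theorem PL_zero (L : List ℕ) : PL h (fun _ => (0 : F)) L = 1 := by
  induction L with
  | nil => rfl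
  | cons s L ih => rw [PL_cons, ih, xg_zero, mul_one]

theorem PL_congr {c d : ℕ → F} {L : List ℕ} (hcd : ∀ s ∈ L, c s = d s) : PL h c L = PL h d L := by
  unfold PL
  congr 1
  exact List.map_congr_left fun s hs => by rw [hcd s hs]

theorem PL_single {r : ℕ} (u : F) {L : List ℕ} (hL : L.Nodup) (hr : r ∈ L) :
    PL h (fun s => if s = r then u else 0) L = xg h r u := by
  induction L with
  | nil => exact absurd hr List.not_mem_nil
  | cons s L ih =>
    rw [List.nodup_cons] at hL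
    rw [PL_cons]
    rcases List.mem_cons.1 hr with rfl | hr'
    · have h1 : PL h (fun s => if s = r then u else 0) L = PL h (fun _ => (0 : F)) L :=
        PL_congr h fun s hs => if_neg (fun e => hL.1 (by rwa [e] at hs))
      rw [h1, PL_zero, mul_one, if_pos rfl]
    · have h1 : s ≠ r := fun e => hL.1 (e ▸ hr')
      rw [if_neg h1, xg_zero, one_mul, ih hL.2 hr']

/-- the list of the roots of grade 1 -/
def L1 (D : ChevalleyDatum) : List ℕ := (List.range D.nroots).filter fun s => rt D s (node D) = 1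

theorem mem_L1 {s : ℕ} : s ∈ L1 D ↔ s < D.nroots ∧ rt D s (node D) = 1 := by
  unfold L1
  rw [List.mem_filter, List.mem_range, decide_eq_true_eq]

theorem L1_nodup : (L1 D).Nodup := List.Nodup.filter _ List.nodup_range

/-- every element of `Q` is an ordered product -/
theorem exists_PL {y : ↥(D.group F)} (hy : y ∈ Q1 h hp cs F) :
    ∃ (c : ℕ → F) (t : F), y = PL h c (L1 D) * xg h (top D) t := by
  have hL : ∀ s ∈ L1 D, s < D.nroots ∧ rt D s (node D) = 1 := fun s hs => mem_L1.1 hs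
  let K : Subgroup ↥(D.group F) :=
    { carrier := {y | ∃ (c : ℕ → F) (t : F), y = PL h c (L1 D) * xg h (top D) t}
      mul_mem' := by
        rintro _ _ ⟨c, t, rfl⟩ ⟨d, u, rfl⟩
        obtain ⟨v, hv⟩ := PL_mul h hp cs c d hL
        refine ⟨fun s => c s + d s, v + (t + u), ?_⟩
        calc PL h c (L1 D) * xg h (top D) t * (PL h d (L1 D) * xg h (top D) u)
            = PL h c (L1 D) * (xg h (top D) t * PL h d (L1 D)) * xg h (top D) u := by group
          _ = PL h c (L1 D) * (PL h d (L1 D) * xg h (top D) t) * xg h (top D) u := by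
            rw [Q1_comm_top h hp cs (PL_mem h hp cs d hL)]
          _ = (PL h c (L1 D) * PL h d (L1 D)) * (xg h (top D) t * xg h (top D) u) := by group
          _ = _ := by rw [hv, xg_add, mul_assoc, xg_add]
      one_mem' := ⟨fun _ => 0, 0, by rw [PL_zero, xg_zero, one_mul]⟩
      inv_mem' := by
        rintro _ ⟨c, t, rfl⟩
        obtain ⟨v, hv⟩ := PL_mul h hp cs c (fun s => -c s) hL
        have h1 : PL h (fun s => c s + -c s) (L1 D) = 1 := by
          rw [← PL_zero h (F := F) (L1 D)]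
          exact PL_congr h fun s _ => add_neg_cancel _
        rw [h1, one_mul] at hv
        refine ⟨fun s => -c s, -(t + v), ?_⟩
        rw [inv_eq_iff_mul_eq_one]
        calc PL h c (L1 D) * xg h (top D) t * (PL h (fun s => -c s) (L1 D) * xg h (top D) (-(t + v)))
            = PL h c (L1 D) * (xg h (top D) t * PL h (fun s => -c s) (L1 D)) * xg h (top D) (-(t + v)) := by group
          _ = PL h c (L1 D) * (PL h (fun s => -c s) (L1 D) * xg h (top D) t) * xg h (top D) (-(t + v)) := by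
            rw [Q1_comm_top h hp cs (PL_mem h hp cs _ hL)]
          _ = (PL h c (L1 D) * PL h (fun s => -c s) (L1 D)) * (xg h (top D) t * xg h (top D) (-(t + v))) := by group
          _ = 1 := by
            rw [hv, xg_add, xg_add, show v + (t + -(t + v)) = 0 by ring, xg_zero] }
  have h1 : Q1 h hp cs F ≤ K := Sup_le_of h hp cs (fun a ha => ha.1) fun r hr hrS a => by
    have h2 := rt_le h hr
    have h3 : 1 ≤ rt D r (node D) := hrS.2
    rcases h3.eq_or_lt with h4 | h4
    · exact ⟨fun s => if s = r then a else 0, 0, by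
        rw [PL_single h a L1_nodup (mem_L1.2 ⟨hr, h4.symm⟩), xg_zero, mul_one]⟩
    · have := eq_top h hr (by omega)
      subst this
      exact ⟨fun _ => 0, a, by rw [PL_zero, one_mul]⟩
  exact h1 hy

include hp in
theorem rho_PL (c : ℕ → F) {L : List ℕ} (hL : ∀ s ∈ L, s < D.nroots ∧ rt D s (node D) = 1) :
    rho (PL h c L) = -(L.map fun s => c s • ev D F s).sum := by
  induction L with
  | nil => rw [PL_nil, rho_one, List.map_nil, List.sum_nil, _root_.neg_zero]
  | cons s L ih =>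
    have hs := hL s List.mem_cons_self
    have hL' : ∀ s ∈ L, s < D.nroots ∧ rt D s (node D) = 1 := fun s hs => hL s (List.mem_cons_of_mem _ hs)
    rw [PL_cons, rho_mul (Q1_le_Rad h hp M.toCoxeterSystem (xg_mem_Q1 h hp _ hs.1 hs.2.ge _))
      (Q1_le_Rad h hp M.toCoxeterSystem (PL_mem h hp _ c hL')), ih hL', rho_xg h hs.1 hs.2, List.map_cons,
      List.sum_cons, _root_.neg_add]

theorem sum_ev_apply (c : ℕ → F) {L : List ℕ} (hL : L.Nodup) (v : Fin D.nroots) :
    (L.map fun s => c s • ev D F s).sum (Sum.inr v) = if v.val ∈ L then c v.val else 0 := by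
  induction L with
  | nil => simp
  | cons s L ih =>
    rw [List.nodup_cons] at hL
    rw [List.map_cons, List.sum_cons, Pi.add_apply, ih hL.2, Pi.smul_apply, ev_inr, smul_eq_mul]
    by_cases hv : v.val = s
    · rw [if_pos hv, hv, if_neg hL.1, if_pos List.mem_cons_self, mul_one, add_zero]
    · rw [if_neg hv, mul_zero, zero_add]
      by_cases hvL : v.val ∈ L
      · rw [if_pos hvL, if_pos (List.mem_cons_of_mem _ hvL)]
      · rw [if_neg hvL, if_neg]
        intro h1
        rcases List.mem_cons.1 h1 with h2 | h2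
        · exact hv h2
        · exact hvL h2

/-- **The kernel of `ρ` on `Q` is `X_θ`.** -/
theorem ker_rho {y : ↥(D.group F)} (hy : y ∈ Q1 h hp cs F) (h0 : rho y = 0) : ∃ t, y = xg h (top D) t := by
  have hL : ∀ s ∈ L1 D, s < D.nroots ∧ rt D s (node D) = 1 := fun s hs => mem_L1.1 hs
  obtain ⟨c, t, rfl⟩ := exists_PL h hp cs hy
  refine ⟨t, ?_⟩
  rw [rho_mul (Q1_le_Rad h hp cs (PL_mem h hp cs c hL)) (Q1_le_Rad h hp cs (top_mem_Q1 h hp cs t)), rho_xg_top,
    add_zero, rho_PL h hp c hL, neg_eq_zero] at h0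
  have h1 : PL h c (L1 D) = PL h (fun _ => (0 : F)) (L1 D) := by
    refine PL_congr h fun s hs => ?_
    have h2 := congrFun h0 (Sum.inr ⟨s, (hL s hs).1⟩)
    rw [sum_ev_apply c L1_nodup, if_pos hs] at h2
    exact h2
  rw [h1, PL_zero, one_mul]

/-- the values of `ρ` on `Q` -/
theorem rho_mem_span {y : ↥(D.group F)} (hy : y ∈ Q1 h hp cs F) :
    rho y ∈ Submodule.span F {v | ∃ s < D.nroots, rt D s (node D) = 1 ∧ v = ev D F s} := by
  have hL : ∀ s ∈ L1 D, s < D.nroots ∧ rt D s (node D) = 1 := fun s hs => mem_L1.1 hs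
  obtain ⟨c, t, rfl⟩ := exists_PL h hp cs hy
  rw [rho_mul (Q1_le_Rad h hp cs (PL_mem h hp cs c hL)) (Q1_le_Rad h hp cs (top_mem_Q1 h hp cs t)), rho_xg_top,
    add_zero, rho_PL h hp c hL]
  refine neg_mem (list_sum_mem fun v hv => ?_)
  obtain ⟨s, hs, rfl⟩ := List.mem_map.1 hv
  exact Submodule.smul_mem _ _ (Submodule.subset_span ⟨s, (hL s hs).1, (hL s hs).2, rfl⟩)

end Cfsg.Agent.H818.StrP.UAct
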