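import Cfsg.Agent.ChevalleyStructure.RootVec
import Cfsg.Agent.ChevalleyStructure.HMatDiagAll
import Cfsg.Agent.Nodes.RGDChev

/-!
# The highest root of the exceptional root systems (and of `D4`)

`top D = D.nroots - 1` is the index of the highest root `θ`, `D.neg (top D) = 0`.  In the types `G2`, `D4`, `F4`, `E6`,
`E7`, `E8` there is one node `i₀ = node D` with `⟨α_j, θ^∨⟩ = δ_{j, i₀}`, so `⟨s, θ^∨⟩ = rt D s i₀` for every root `s`.

`Hi D` : the facts about `θ` used for the grading by `rt D · i₀`.
-/

set_option autoImplicit false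

namespace Cfsg.Agent.H818.StrP.UTab

open Cfsg.Lie Cfsg.Agent.ChevalleyStructure.RootVecTab Cfsg.Agent.ChevalleyStructure.RootVec
  Cfsg.Agent.ChevalleyStructure.HMatDiagAll

/-- the index of the highest root -/
def top (D : ChevalleyDatum) : ℕ := D.nroots - 1

/-- the node `i₀` -/
def node (D : ChevalleyDatum) : ℕ :=
  if D.nroots = 12 then 1 else if D.nroots = 24 then 1 else if D.nroots = 48 then 3
  else if D.nroots = 72 then 1 else if D.nroots = 126 then 0 else 7

/-- the entry of the chain table of the highest root -/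
def ent (D : ChevalleyDatum) (s : ℕ) : Bool :=
  match D.chainEntry (top D) s with
  | [(_, ε)] => decide (ε = 1) || decide (ε = -1)
  | _ => false

/-- the target of the entry -/
def tgt (D : ChevalleyDatum) (s : ℕ) : ℕ :=
  match D.chainEntry (top D) s with
  | [(u, _)] => u
  | _ => 0

/-- the check for one root -/
def chk1 (D : ChevalleyDatum) (s : ℕ) : Bool :=
  let m := rt D s (node D)
  decide (m ≤ 2) && (decide (m ≠ 2) || decide (s = top D)) &&
  (decide (m ≠ -1) || ent D s) &&
  (decide (s = top D) || decide (s = 0) ||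
    decide (((D.chainEntry 0 s).length : ℤ) - ((D.chainEntry (top D) s).length : ℤ) = m))

/-- the check for one simple root -/
def chk2 (D : ChevalleyDatum) (j : ℕ) : Bool :=
  decide (((List.range D.rank).map fun i => co D (top D) i * D.cartan i (D.simple j)).sum = if j = node D then 1 else 0)

/-- the roots `θ + s` -/
def chk3 (D : ChevalleyDatum) (γ : ℕ) : Bool :=
  decide (rt D γ (node D) ≠ 1) || (List.range D.nroots).any fun s => decide (rt D s (node D) = -1) &&
    decide (tgt D s = γ)

def chk (D : ChevalleyDatum) : Bool :=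
  (List.range D.nroots).all (fun s => chk1 D s && chk3 D s) && (List.range D.rank).all (chk2 D) &&
    decide (node D < D.rank) && decide (rt D (top D) (node D) = 2)

theorem chk_G2 : chk chevG2 = true := by decide +kernel
theorem chk_D4 : chk chevD4 = true := by decide +kernel
theorem chk_F4 : chk chevF4 = true := by decide +kernel
theorem chk_E6 : chk chevE6 = true := by decide +kernel
theorem chk_E7 : chk chevE7 = true := by decide +kernel
theorem chk_E8 : chk chevE8 = true := by decide +kernel

/-- the list of the types with the node `node D` -/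
abbrev HiList (D : ChevalleyDatum) : Prop := D ∈ [chevG2, chevD4, chevF4, chevE6, chevE7, chevE8]

theorem HiList.inList {D : ChevalleyDatum} (h : HiList D) :
    D ∈ [chevG2, chevB2, chevD4, chevF4, chevE6, chevE7, chevE8] := by
  simp only [HiList, List.mem_cons, List.not_mem_nil, or_false] at h ⊢
  tauto

theorem HiList.chk {D : ChevalleyDatum} (h : HiList D) : chk D = true := by
  simp only [HiList, List.mem_cons, List.not_mem_nil, or_false] at h
  rcases h with rfl | rfl | rfl | rfl | rfl | rfl
  · exact chk_G2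
  · exact chk_D4
  · exact chk_F4
  · exact chk_E6
  · exact chk_E7
  · exact chk_E8

section

variable {D : ChevalleyDatum} (h : HiList D)

include h

theorem HiList.checked : Checked D := checked_of_mem h.inList

theorem chkAll : (∀ s < D.nroots, chk1 D s = true ∧ chk3 D s = true) ∧ (∀ j < D.rank, chk2 D j = true) ∧
    node D < D.rank ∧ rt D (top D) (node D) = 2 := by
  have h1 := h.chk
  unfold UTab.chk at h1
  rw [Bool.and_eq_true, Bool.and_eq_true, Bool.and_eq_true, List.all_eq_true, List.all_eq_true, decide_eq_true_eq,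
    decide_eq_true_eq] at h1
  obtain ⟨⟨⟨h2, h3⟩, h4⟩, h5⟩ := h1
  refine ⟨fun s hs => ?_, fun j hj => h3 j (List.mem_range.2 hj), h4, h5⟩
  have := h2 s (List.mem_range.2 hs)
  rwa [Bool.and_eq_true] at this

theorem node_lt : node D < D.rank := (chkAll h).2.2.1

theorem rt_top : rt D (top D) (node D) = 2 := (chkAll h).2.2.2

theorem top_lt : top D < D.nroots := by
  have := nroots_pos h.checked
  unfold top; omega

theorem neg_top : D.neg (top D) = 0 := by
  rw [neg_eq h.checked (top_lt h)]
  unfold top; omega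

theorem neg_zero : D.neg 0 = top D := by
  rw [neg_eq h.checked (nroots_pos h.checked)]
  unfold top; omega

theorem rt_zero (i : ℕ) : rt D 0 i = - rt D (top D) i := by
  rw [← neg_top h, rt_neg h.checked (top_lt h)]

theorem chk1_spec {s : ℕ} (hs : s < D.nroots) : rt D s (node D) ≤ 2 ∧ (rt D s (node D) = 2 → s = top D) ∧
    (rt D s (node D) = -1 → ent D s = true) ∧
    ((s = top D ∨ s = 0) ∨ ((D.chainEntry 0 s).length : ℤ) - ((D.chainEntry (top D) s).length : ℤ) =
      rt D s (node D)) := by
  have h1 := ((chkAll h).1 s hs).1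
  unfold chk1 at h1
  simp only [Bool.and_eq_true, Bool.or_eq_true, decide_eq_true_eq] at h1
  obtain ⟨⟨⟨h2, h3⟩, h4⟩, h5⟩ := h1
  exact ⟨h2, fun h => h3.resolve_left (not_not.2 h), fun h => h4.resolve_left (not_not.2 h), h5⟩

theorem rt_le {s : ℕ} (hs : s < D.nroots) : rt D s (node D) ≤ 2 := (chk1_spec h hs).1

theorem eq_top {s : ℕ} (hs : s < D.nroots) (h2 : rt D s (node D) = 2) : s = top D := (chk1_spec h hs).2.1 h2

theorem le_rt {s : ℕ} (hs : s < D.nroots) : -2 ≤ rt D s (node D) := by
  have h1 := rt_le h (Cfsg.Agent.ChevalleyStructure.RootVec.neg_lt h.checked hs)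
  rw [rt_neg h.checked hs] at h1
  omega

theorem eq_zero {s : ℕ} (hs : s < D.nroots) (h2 : rt D s (node D) = -2) : s = 0 := by
  have h1 := eq_top h (Cfsg.Agent.ChevalleyStructure.RootVec.neg_lt h.checked hs) (by rw [rt_neg h.checked hs]; omega)
  have h3 := Cfsg.Agent.ChevalleyStructure.RootVec.neg_neg h.checked hs
  rw [h1, neg_top h] at h3
  exact h3.symm

theorem expo_eq {s : ℕ} (hs : s < D.nroots) : expo D (top D) s = rt D s (node D) := by
  have h2 := (chk1_spec h hs).2.2.2
  rw [expo_def, neg_top h]
  by_cases h3 : s = top D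
  · rw [if_pos h3, h3, rt_top h]
  · rw [if_neg h3]
    by_cases h4 : s = 0
    · rw [if_pos h4, h4, rt_zero h, rt_top h]
    · rw [if_neg h4]
      rcases h2 with h5 | h5
      · rcases h5 with h5 | h5
        · exact absurd h5 h3
        · exact absurd h5 h4
      · exact h5

theorem pair {s : ℕ} (hs : s < D.nroots) :
    ∑ i ∈ Finset.range D.rank, co D (top D) i * D.cartan i s = rt D s (node D) := by
  have h1 : ∀ j ∈ Finset.range D.rank, ∑ i ∈ Finset.range D.rank, co D (top D) i * D.cartan i (D.simple j) =
      if j = node D then 1 else 0 := by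
    intro j hj
    have h2 := (chkAll h).2.1 j (Finset.mem_range.1 hj)
    unfold chk2 at h2
    rw [decide_eq_true_eq] at h2
    rw [← h2]
    rfl
  have h2 : ∑ i ∈ Finset.range D.rank, co D (top D) i * D.cartan i s =
      ∑ i ∈ Finset.range D.rank, ∑ j ∈ Finset.range D.rank,
        rt D s j * (co D (top D) i * D.cartan i (D.simple j)) := by
    refine Finset.sum_congr rfl fun i hi => ?_
    rw [cartan_eq_sum h.checked (Finset.mem_range.1 hi) hs, Finset.mul_sum]
    exact Finset.sum_congr rfl fun j _ => by ring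
  rw [h2, Finset.sum_comm]
  have h3 : ∀ j ∈ Finset.range D.rank, ∑ i ∈ Finset.range D.rank,
      rt D s j * (co D (top D) i * D.cartan i (D.simple j)) = if j = node D then rt D s (node D) else 0 := by
    intro j hj
    rw [← Finset.mul_sum, h1 j hj]
    by_cases hj' : j = node D
    · subst hj'; simp
    · simp [hj']
  rw [Finset.sum_congr rfl h3, Finset.sum_ite_eq' , if_pos (Finset.mem_range.2 (node_lt h))]

theorem ent_spec {s : ℕ} (hs : s < D.nroots) (h1 : rt D s (node D) = -1) :
    ∃ ε : ℤ, (ε = 1 ∨ ε = -1) ∧ D.chainEntry (top D) s = [(tgt D s, ε)] := by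
  have h2 := (chk1_spec h hs).2.2.1 h1
  unfold ent at h2
  unfold tgt
  split at h2
  · rename_i u ε hu
    rw [Bool.or_eq_true, decide_eq_true_eq, decide_eq_true_eq] at h2
    exact ⟨ε, h2, by rw [hu]⟩
  · simp at h2

/-- `θ + s` -/
theorem tgt_spec {s : ℕ} (hs : s < D.nroots) (h1 : rt D s (node D) = -1) :
    tgt D s < D.nroots ∧ ∀ i, rt D (tgt D s) i = rt D s i + rt D (top D) i := by
  obtain ⟨ε, -, h2⟩ := ent_spec h hs h1
  unfold ChevalleyDatum.chainEntry at h2
  split at h2
  · exact absurd h2.symm (List.cons_ne_nil _ _)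
  · rename_i e he
    have h3 := List.mem_of_find?_eq_some he
    have h4 : e.1 = s := by simpa using List.find?_some he
    have h5 : (e.2.toList)[0]? = some (tgt D s, ε) := by rw [h2]; rfl
    obtain ⟨h6, h7⟩ := row_entry h.checked h3 h5
    refine ⟨h6, fun i => ?_⟩
    have := h7 i
    rw [h4] at this
    rw [this]; push_cast; ring

theorem onto {γ : ℕ} (hγ : γ < D.nroots) (h1 : rt D γ (node D) = 1) :
    ∃ s < D.nroots, rt D s (node D) = -1 ∧ tgt D s = γ := by
  have h2 := ((chkAll h).1 γ hγ).2
  unfold chk3 at h2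
  rw [Bool.or_eq_true, decide_eq_true_eq, List.any_eq_true] at h2
  obtain ⟨s, hs, h3⟩ := h2.resolve_left (not_not.2 h1)
  rw [Bool.and_eq_true, decide_eq_true_eq, decide_eq_true_eq] at h3
  exact ⟨s, List.mem_range.1 hs, h3.1, h3.2⟩

end

end Cfsg.Agent.H818.StrP.UTab
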