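import Cfsg.Agent.H818.StrP.UBru
import Cfsg.Agent.H818.StrP.Semi

/-!
# Theorem Z, first part : the torus element `τ`, the commutator of two long root elements

`σ` a Frobenius automorphism of `D.group k` acting on the root elements by `x_s(t) ↦ x_{g s}(c t^q)`, `q = r ^ e ≥ 3`, `H` a
subgroup of fixed points containing the fixed points of `X_θ` and `X_{-θ}`, such that the subspace of the adjoint module
spanned by the vectors `η e_θ`, `η ∈ H`, contains all root vectors.  Then `H` contains the fixed points of the radical `Q` of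
the parabolic subgroup of `θ` (`Z_mem`) and of its opposite (`Z_mem_neg`).
-/

set_option autoImplicit false
set_option linter.unusedSectionVars false
set_option linter.unusedVariables false

namespace Cfsg.Agent.H818.StrP.UAct

open CoxeterSystem Cfsg Cfsg.Lie Cfsg.Lie.ChevalleyDatum
open Cfsg.Agent.ChevalleyStructure Cfsg.Agent.ChevalleyStructure.Elts Cfsg.Agent.ChevalleyStructure.CoxeterGeom
  Cfsg.Agent.ChevalleyStructure.CoxeterGeomTypes Cfsg.Agent.ChevalleyStructure.NPerm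
open Cfsg.Agent.Tits.Roots Cfsg.Agent.Tits.Core Cfsg.Agent.Nodes Cfsg.Agent.Nodes.Reps Cfsg.Agent.Nodes.BNOf
  Cfsg.Agent.Nodes.RGDChev Cfsg.Agent.Nodes.Bruhat Cfsg.Agent.Nodes.NormalForm
open Cfsg.Agent.KFacts.RgdField Cfsg.Agent.KFacts.RgdChevCoord
open Cfsg.Agent.BpExc Cfsg.Agent.BpExc.TorCent Cfsg.Agent.BpExc.TorChev Cfsg.Agent.BpExc.Tow
  Cfsg.Agent.BpExc.TowChev Cfsg.Agent.BpExc.Fr Cfsg.Agent.BpExc.LangFr Cfsg.Agent.GpExc.Field
  Cfsg.Agent.BpExc.NInst Cfsg.Agent.BpExc.NChev Cfsg.Agent.BpExc.CommZ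
open Cfsg.Agent.ChevalleyStructure.RootVec Cfsg.Agent.ChevalleyStructure.RootSupport
  Cfsg.Agent.ChevalleyStructure.XColumns Cfsg.Agent.ChevalleyStructure.HMatDiagAll Cfsg.Agent.H818.StrP.UTab
open scoped Matrix commutatorElement

universe u v

variable {D : ChevalleyDatum} {k : Type u} [Field k] (h : HiList D)

/-! ### the rank one group of `θ` -/

/-- `n_θ(t)` -/
def ng (h : HiList D) (t : k) : ↥(D.group k) := ⟨nG h.inList (top D) t, nG_mem_group h.inList _ _⟩

theorem ng_eq (t : k) : ng h t = xg h (top D) t * (xg h 0 (-t⁻¹) * xg h (top D) t) := by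
  apply Subtype.ext
  show nG h.inList (top D) t = xG h.inList (top D) t * (xG h.inList 0 (-t⁻¹) * xG h.inList (top D) t)
  rw [nG_def, neg_top h]

theorem ht_eq (t : k) : ht h t = ng h t * ng h (-1) := by
  apply Subtype.ext
  show hG h.inList (top D) t = nG h.inList (top D) t * nG h.inList (top D) (-1)
  rw [hG_def]

/-- `h_θ(a t) h_θ(a)⁻¹` -/
def tau (h : HiList D) (a t : k) : ↥(D.group k) := ht h (a * t) * (ht h a)⁻¹

theorem tau_eq (a t : k) : tau h a t = ng h (a * t) * (ng h a)⁻¹ := by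
  rw [tau, ht_eq, ht_eq]; group

theorem tau_mem_TT {a t : k} (ha : a ≠ 0) (ht : t ≠ 0) : tau h a t ∈ TT D k :=
  mul_mem (ht_mem h (mul_ne_zero ha ht)) (inv_mem (ht_mem h ha))

theorem act_tau_hT {a t : k} (ha : a ≠ 0) (ht : t ≠ 0) : act (tau h a t) (hT D k) = hT D k :=
  (act_torus h (tau_mem_TT h ha ht)).1

theorem act_tau {a t : k} (ha : a ≠ 0) (ht : t ≠ 0) {w : D.Idx → k} (hw : w ∈ Vge D k 1) :
    act (tau h a t) w - t • w ∈ Vge D k 2 := by
  have hF : ∀ {b : k}, b ≠ 0 → UAct.ht h b ∈ Fil D k := fun hb => torus_le_Fil h (ht_mem h hb)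
  set w' := act (UAct.ht h a)⁻¹ w with hw'
  have h1 : w' ∈ Vge D k 1 := (inv_mem (hF ha) 1 w).2 hw
  have h2 : w - a • w' ∈ Vge D k 2 := by
    have := act_ht h ha h1
    rwa [hw', act_act_inv] at this
  have h3 := act_ht h (mul_ne_zero ha ht) h1
  have e : act (tau h a t) w - t • w = (act (UAct.ht h (a * t)) w' - (a * t) • w') - t • (w - a • w') := by
    rw [tau, act_mul, smul_sub, smul_smul, mul_comm t a]
    abel
  rw [e]
  exact sub_mem h3 (Submodule.smul_mem _ _ h2)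

theorem tau_mul_xg {a t : k} (ha : a ≠ 0) (ht : t ≠ 0) {r : ℕ} (hr : r < D.nroots) (c : k) :
    tau h a t * xg h r c = xg h r (t ^ rt D r (node D) * c) * tau h a t := by
  have h1 := ht_mul_xg h ha hr ((a ^ rt D r (node D))⁻¹ * c)
  rw [mul_inv_cancel_left₀ (zpow_ne_zero _ ha)] at h1
  have h2 : (UAct.ht h a)⁻¹ * xg h r c = xg h r ((a ^ rt D r (node D))⁻¹ * c) * (UAct.ht h a)⁻¹ := by
    rw [inv_mul_eq_iff_eq_mul, ← mul_assoc, h1, mul_inv_cancel_right]
  have h3 := ht_mul_xg h (mul_ne_zero ha ht) hr ((a ^ rt D r (node D))⁻¹ * c)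
  rw [tau, mul_assoc, h2, ← mul_assoc, h3, mul_assoc, mul_zpow]
  congr 2
  field_simp

/-! ### the hypotheses -/

variable {l : ℕ} {M : CoxeterMatrix (Fin l)} (hp : IsType D l M) {W : Type v} [Group W] (cs : CoxeterSystem M W)

/-- the hypotheses of Theorem Z -/
structure ZHyp (h : HiList D) (hp : IsType D l M) (cs : CoxeterSystem M W) (q : ℕ) (σ : MulAut ↥(D.group k))
    (g : (Fin l → ℤ) ≃+ (Fin l → ℤ)) (H : Subgroup ↥(D.group k)) : Prop where
  fr : Fr cs hp.isCartan (TT D k) (XX D l k) σ g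
  gpos : ∀ a, IsRoot cs hp.isCartan a → 0 ≤ a → 0 ≤ g a
  gtop : g (vec D l (top D)) = vec D l (top D)
  gact : ∀ s < D.nroots, ∃ s', vec D l s' = g (vec D l s) ∧ s' < D.nroots ∧ ∃ c : k, c ≠ 0 ∧
    (∀ t, σ (xg h s t) = xg h s' (c * t ^ q)) ∧ ∀ t, σ (xg h (D.neg s) t) = xg h (D.neg s') (c⁻¹ * t ^ q)
  fix : ∀ x ∈ H, σ x = x
  root : ∀ t, σ (xg h (top D) t) = xg h (top D) t → xg h (top D) t ∈ H
  root' : ∀ t, σ (xg h 0 t) = xg h 0 t → xg h 0 t ∈ H

variable {h hp cs} {r e : ℕ} [Fact r.Prime] [CharP k r] {σ : MulAut ↥(D.group k)} {g : (Fin l → ℤ) ≃+ (Fin l → ℤ)}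
  {H : Subgroup ↥(D.group k)} (Z : ZHyp h hp cs (r ^ e) σ g H)

include Z

/-- the action on `X_θ`, `X_{-θ}` and a fixed element -/
theorem ZHyp.exists_lam [IsAlgClosed k] (hq : 3 ≤ r ^ e) : ∃ a : k, a ≠ 0 ∧
    (∀ t, t ^ r ^ e = t → σ (xg h (top D) (a * t)) = xg h (top D) (a * t) ∧
      σ (xg h 0 (a⁻¹ * t)) = xg h 0 (a⁻¹ * t)) := by
  obtain ⟨s', hs', hs, c, hc, h1, h2⟩ := Z.gact (top D) (top_lt h)
  rw [Z.gtop] at hs'
  have := vec_inj hp hs (top_lt h) hs'
  subst this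
  rw [neg_top h] at h2
  obtain ⟨a, ha⟩ := IsAlgClosed.exists_pow_nat_eq (c⁻¹) (n := r ^ e - 1) (by omega)
  have ha0 : a ≠ 0 := by
    rintro rfl
    rw [zero_pow (by omega)] at ha
    exact inv_ne_zero hc ha.symm
  have ha1 : c * a ^ r ^ e = a := by
    have e1 : r ^ e = (r ^ e - 1) + 1 := by omega
    rw [e1, pow_succ, ha, mul_inv_cancel_left₀ hc]
  refine ⟨a, ha0, fun t ht => ⟨?_, ?_⟩⟩
  · rw [h1, mul_pow, ht, ← mul_assoc, ha1]
  · rw [h2, mul_pow, ht, ← mul_assoc]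
    congr 2
    rw [inv_pow, ← mul_inv, ha1]

omit Z in
theorem neg_pow_frob (t : k) : (-t) ^ r ^ e = -(t ^ r ^ e) := by
  have := map_neg (iterateFrobenius k r e) t
  rwa [iterateFrobenius_def, iterateFrobenius_def] at this

/-- the elements `n_θ(a t)` and `τ` -/
theorem ZHyp.exists_a [IsAlgClosed k] (hq : 3 ≤ r ^ e) : ∃ a : k, a ≠ 0 ∧ xg h (top D) a ∈ H ∧
    (∀ t, t ≠ 0 → t ^ r ^ e = t → ng h (a * t) ∈ H ∧ tau h a t ∈ H ∧
      σ (xg h (top D) (a * t)) = xg h (top D) (a * t) ∧ σ (xg h 0 (-(a * t)⁻¹)) = xg h 0 (-(a * t)⁻¹)) := by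
  obtain ⟨a, ha, h1⟩ := Z.exists_lam hq
  have h4 : ∀ t, t ≠ 0 → t ^ r ^ e = t → σ (xg h 0 (-(a * t)⁻¹)) = xg h 0 (-(a * t)⁻¹) := by
    intro t ht0 ht
    have h4 := (h1 (-t⁻¹) (by rw [neg_pow_frob, inv_pow, ht])).2
    rwa [mul_neg, ← mul_inv] at h4
  have h2 : ∀ t, t ≠ 0 → t ^ r ^ e = t → ng h (a * t) ∈ H := by
    intro t ht0 ht
    rw [ng_eq]
    have h3 := Z.root _ (h1 t ht).1
    exact mul_mem h3 (mul_mem (Z.root' _ (h4 t ht0 ht)) h3)
  refine ⟨a, ha, ?_, fun t ht0 ht => ⟨h2 t ht0 ht, ?_, (h1 t ht).1, h4 t ht0 ht⟩⟩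
  · have := (h1 1 (one_pow _)).1
    rw [mul_one] at this
    exact Z.root _ this
  · rw [tau_eq]
    have h3 := h2 1 one_ne_zero (one_pow _)
    rw [mul_one] at h3
    exact mul_mem (h2 t ht0 ht) (inv_mem h3)

omit Z in
/-- an element of `F_q` other than `0`, `1` -/
theorem exists_t [IsAlgClosed k] (hq : 3 ≤ r ^ e) : ∃ t : k, t ≠ 0 ∧ t ≠ 1 ∧ t ^ r ^ e = t := by
  have hr : (r ^ e : ℕ) - 1 ≠ 0 := by omega
  have he : e ≠ 0 := by
    rintro rfl
    rw [pow_zero] at hq
    omega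
  have hne : NeZero (((r ^ e - 1 : ℕ) : k)) := by
    constructor
    intro h0
    have h1 : ((r ^ e : ℕ) : k) = 0 := by
      rw [Nat.cast_pow, CharP.cast_eq_zero, zero_pow he]
    have h2 : ((r ^ e - 1 : ℕ) : k) + 1 = ((r ^ e : ℕ) : k) := by
      rw [← Nat.cast_add_one]
      congr 1
      omega
    rw [h0, h1, zero_add] at h2
    exact one_ne_zero h2
  obtain ⟨t, ht⟩ := HasEnoughRootsOfUnity.exists_primitiveRoot k (r ^ e - 1)
  refine ⟨t, ht.ne_zero hr, fun h1 => ?_, ?_⟩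
  · rw [h1] at ht
    have := ht.eq_orderOf
    rw [orderOf_one] at this
    omega
  · have h1 : t ^ (r ^ e - 1 + 1) = t := by rw [pow_succ, ht.pow_eq_one, one_mul]
    have h2 : r ^ e - 1 + 1 = r ^ e := by omega
    rwa [h2] at h1

/-! ### `τ` and `U` -/

omit Z in
theorem tau_norm_Q1 {a t : k} (ha : a ≠ 0) (ht : t ≠ 0) {y : ↥(D.group k)} (hy : y ∈ Q1 h hp cs k) :
    tau h a t * y * (tau h a t)⁻¹ ∈ Q1 h hp cs k := by
  have h1 : Q1 h hp cs k ≤ (Q1 h hp cs k).comap (MulAut.conj (tau h a t)).toMonoidHom := by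
    refine Sup_le_of h hp cs (fun a ha => ha.1) fun s hs hsS u => ?_
    show tau h a t * xg h s u * (tau h a t)⁻¹ ∈ Q1 h hp cs k
    rw [tau_mul_xg h ha ht hs, mul_inv_cancel_right]
    exact xg_mem_Q1 h hp cs hs hsS.2 _
  exact h1 hy

omit Z in
/-- `[U, τ] ≤ Q` -/
theorem comm_tau {a t : k} (ha : a ≠ 0) (ht : t ≠ 0) {u : ↥(D.group k)} (hu : u ∈ UU hp cs k) :
    u * tau h a t * u⁻¹ * (tau h a t)⁻¹ ∈ Q1 h hp cs k := by
  set τ := tau h a t with hτ
  have hN := Sup_norm (F := k) h hp cs (pos_grade h hp cs)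
  let K : Subgroup ↥(D.group k) :=
    { carrier := {u | u ∈ Subgroup.normalizer (Q1 h hp cs k : Set ↥(D.group k)) ∧ u * τ * u⁻¹ * τ⁻¹ ∈ Q1 h hp cs k}
      mul_mem' := by
        rintro u v ⟨hu, hu'⟩ ⟨hv, hv'⟩
        refine ⟨mul_mem hu hv, ?_⟩
        have e : u * v * τ * (u * v)⁻¹ * τ⁻¹ = u * (v * τ * v⁻¹ * τ⁻¹) * u⁻¹ * (u * τ * u⁻¹ * τ⁻¹) := by group
        rw [e]
        exact mul_mem ((Subgroup.mem_normalizer_iff.1 hu _).1 hv') hu'
      one_mem' := ⟨one_mem _, by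
        have e : (1 : ↥(D.group k)) * τ * 1⁻¹ * τ⁻¹ = 1 := by group
        rw [e]; exact one_mem _⟩
      inv_mem' := by
        rintro u ⟨hu, hu'⟩
        refine ⟨inv_mem hu, ?_⟩
        have e : u⁻¹ * τ * u⁻¹⁻¹ * τ⁻¹ = u⁻¹ * (u * τ * u⁻¹ * τ⁻¹)⁻¹ * u⁻¹⁻¹ := by group
        rw [e]
        exact (Subgroup.mem_normalizer_iff.1 (inv_mem hu) _).1 (inv_mem hu') }
  have h1 : UU hp cs k ≤ K := Sup_le_of h hp cs (fun a ha => ha.1) fun s hs hsS c => by
    have hs0 : 0 ≤ rt D s (node D) := vec_nonneg h hp hsS.2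
    refine ⟨xg_norm h hp cs hs hs0 c, ?_⟩
    have h2 := tau_mul_xg h ha ht hs (-c)
    rw [← hτ] at h2
    rw [xg_inv]
    have e : xg h s c * τ * xg h s (-c) * τ⁻¹ = xg h s c * (τ * xg h s (-c)) * τ⁻¹ := by group
    rw [e, h2]
    have e2 : xg h s c * (xg h s (t ^ rt D s (node D) * -c) * τ) * τ⁻¹ =
        xg h s c * xg h s (t ^ rt D s (node D) * -c) := by group
    rw [e2]
    rcases hs0.eq_or_lt with h3 | h3
    · rw [← h3, zpow_zero, one_mul, xg_add, add_neg_cancel, xg_zero]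
      exact one_mem _
    · exact mul_mem (xg_mem_Q1 h hp cs hs h3 _) (xg_mem_Q1 h hp cs hs h3 _)
  exact (h1 hu).2

omit Z in
/-- **Lemma T, computation** : `ρ [u, τ] = (1 - t) ρ u` -/
theorem rho_comm_tau {a t : k} (ha : a ≠ 0) (ht : t ≠ 0) {u : ↥(D.group k)} (hu : u ∈ UU hp cs k) :
    rho (u * tau h a t * u⁻¹ * (tau h a t)⁻¹) = (1 - t) • rho u := by
  have hF := Sup_le_Fil (F := k) h hp cs (pos_grade h hp cs) hu
  have h1 := Sup_act_hT (F := k) h hp cs (pos_grade h hp cs) (inv_mem hu)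
  obtain ⟨w, hw⟩ : ∃ w, w = act u⁻¹ (hT D k) - hT D k := ⟨_, rfl⟩
  rw [← hw] at h1
  have e1 : act u⁻¹ (hT D k) = hT D k + w := by rw [hw]; abel
  have e2 : act (tau h a t)⁻¹ (hT D k) = hT D k := by
    conv_lhs => rw [← act_tau_hT h ha ht]
    rw [act_inv_act]
  have e3 : act u w = hT D k - act u (hT D k) := by
    rw [hw, act_sub, act_act_inv]
  have e4 : act (u * tau h a t * u⁻¹ * (tau h a t)⁻¹) (hT D k) =
      act u (hT D k) + (act u (act (tau h a t) w - t • w) + t • act u w) := by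
    rw [act_mul, act_mul, act_mul, e2, e1, act_add, act_tau_hT h ha ht, act_add, act_sub, act_smul]
    abel
  rw [rho, e4, map_add, map_add, pr1_of_mem_two ((hF 2 _).2 (act_tau h ha ht h1)), zero_add, e3, map_smul, map_sub,
    pr1_hT, rho]
  rw [sub_smul, one_smul, smul_sub, smul_zero, zero_sub]
  abel

/-! ### the commutator of two long root elements -/

omit Z in
/-- `δ = w θ` of grade `-1`: the elements of `combZ θ δ` are `θ + δ` -/
theorem combZ_long (h : HiList D) {w : W} {s : ℕ} (hs : s < D.nroots) (hw : vec D l s = rep cs hp.isCartan w (vec D l (top D)))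
    (h1 : rt D s (node D) = -1) {i j : ℕ} (hi : 0 < i) (hj : 0 < j) {z : ℕ} (hz : z < D.nroots)
    (e : vec D l z = i • vec D l (top D) + j • vec D l s) : i = 1 ∧ j = 1 := by
  -- the root `w⁻¹ θ`
  obtain ⟨s', hs', hsw⟩ := (isRoot_iff hp cs _).1 ((isRoot_vec hp cs (top_lt h)).act w⁻¹)
  have hinv : ∀ x, rep cs hp.isCartan w⁻¹ (rep cs hp.isCartan w x) = x := fun x => by
    rw [← rep_mul_apply, inv_mul_cancel, map_one, Module.End.one_apply]
  have hinv' : ∀ x, rep cs hp.isCartan w (rep cs hp.isCartan w⁻¹ x) = x := fun x => by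
    rw [← rep_mul_apply, mul_inv_cancel, map_one, Module.End.one_apply]
  have hne : ∀ x : Fin l → ℤ, rep cs hp.isCartan w⁻¹ (-x) = - rep cs hp.isCartan w⁻¹ x := fun x => map_neg _ _
  -- grades
  have h2 := rt_le h hs'
  have h3 := le_rt h hs'
  have hs'2 : rt D s' (node D) ≠ 2 := by
    intro h4
    have h5 := eq_top h hs' h4
    rw [h5] at hsw
    have h6 : vec D l s = vec D l (top D) := by
      have h7 := congrArg (rep cs hp.isCartan w) hsw
      rw [hinv'] at h7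
      rw [hw]
      exact h7
    have := congrFun h6 (nd h hp)
    rw [vec_nd, vec_nd, rt_top h, h1] at this
    omega
  have hs'm : rt D s' (node D) ≠ -2 := by
    intro h4
    have h5 := eq_zero h hs' h4
    rw [h5, ← neg_top h, vec_neg hp (top_lt h)] at hsw
    have h6 : vec D l s = -vec D l (top D) := by
      rw [hw]
      have h7 : rep cs hp.isCartan w (-vec D l (top D)) = vec D l (top D) := by rw [hsw, hinv']
      rw [map_neg] at h7
      rw [← h7, _root_.neg_neg, h7]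
    have := congrFun h6 (nd h hp)
    rw [Pi.neg_apply, vec_nd, vec_nd, rt_top h, h1] at this
    omega
  -- `θ + δ` is a root
  obtain ⟨h4, h5⟩ := tgt_spec h hs h1
  have h6 : vec D l (tgt D s) = vec D l s + vec D l (top D) := by
    funext i
    rw [Pi.add_apply, vec_apply, vec_apply, vec_apply, h5]
  obtain ⟨s2, hs2, e2⟩ := (isRoot_iff hp cs _).1 ((isRoot_vec hp cs h4).act w⁻¹)
  rw [h6, map_add, hw, hinv, ← hsw] at e2
  have h7 := congrFun e2 (nd h hp)
  rw [Pi.add_apply, vec_nd, vec_nd, vec_nd, rt_top h] at h7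
  have h8 := rt_le h hs2
  have h9 : rt D s' (node D) ≠ 0 := by
    intro h10
    rw [h10, add_zero] at h7
    have h11 := eq_top h hs2 h7
    rw [h11] at e2
    have h12 : vec D l s' = 0 := by
      have h13 : vec D l (top D) + vec D l s' = vec D l (top D) + 0 := by rw [add_zero]; exact e2.symm
      exact add_left_cancel h13
    exact exists_vec_ne h hp hs' h12
  have hm : rt D s' (node D) = -1 := by omega
  -- the root `z`
  obtain ⟨z', hz', e3⟩ := (isRoot_iff hp cs _).1 ((isRoot_vec hp cs hz).act w⁻¹)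
  rw [e, map_add, map_nsmul, map_nsmul, hw, hinv, ← hsw] at e3
  have h10 := congrFun e (nd h hp)
  have h11 := congrFun e3 (nd h hp)
  rw [Pi.add_apply, Pi.smul_apply, Pi.smul_apply, vec_nd, vec_nd, vec_nd, rt_top h, nsmul_eq_mul, nsmul_eq_mul] at h10 h11
  rw [h1] at h10
  rw [hm] at h11
  have b1 := rt_le h hz
  have b2 := le_rt h hz
  have b3 := rt_le h hz'
  have b4 := le_rt h hz'
  have hi' : (1 : ℤ) ≤ i := by exact_mod_cast hi
  have hj' : (1 : ℤ) ≤ j := by exact_mod_cast hj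
  have h12 : (i : ℤ) = 1 ∧ (j : ℤ) = 1 ∨ (i : ℤ) = 2 ∧ (j : ℤ) = 2 := by omega
  rcases h12 with ⟨h13, h14⟩ | ⟨h13, h14⟩
  · exact ⟨by exact_mod_cast h13, by exact_mod_cast h14⟩
  · exfalso
    rw [h13, h14] at h10 h11
    have c1 := eq_top h hz (by omega)
    have c2 := eq_top h hz' (by omega)
    have c3 : rep cs hp.isCartan w⁻¹ (vec D l z) = vec D l z' := by
      rw [e, map_add, map_nsmul, map_nsmul, hw, hinv, ← hsw, e3]
    rw [c1, c2, ← hsw] at c3
    have := vec_inj hp hs' (top_lt h) c3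
    rw [this, rt_top h] at hm
    omega

omit Z in
/-- **The commutator of long root elements.** -/
theorem comm_long {w : W} {s : ℕ} (hs : s < D.nroots) (hw : vec D l s = rep cs hp.isCartan w (vec D l (top D)))
    (h1 : rt D s (node D) = -1) {a d : k} (ha : a ≠ 0) (hd : d ≠ 0) :
    ∃ b : k, b ≠ 0 ∧ xg h (top D) a * xg h s d * (xg h (top D) a)⁻¹ * (xg h s d)⁻¹ = xg h (tgt D s) b := by
  have h4 := (tgt_spec h hs h1).1
  have h6 : vec D l (tgt D s) = vec D l s + vec D l (top D) := by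
    funext i
    rw [Pi.add_apply, vec_apply, vec_apply, vec_apply, (tgt_spec h hs h1).2]
  have hne1 : vec D l (top D) ≠ vec D l s := by
    intro e
    have := congrFun e (nd h hp)
    rw [vec_nd, vec_nd, rt_top h, h1] at this
    omega
  have hne2 : vec D l (top D) ≠ -vec D l s := by
    intro e
    have := congrFun e (nd h hp)
    rw [Pi.neg_apply, vec_nd, vec_nd, rt_top h, h1] at this
    omega
  have h2 := comm_mem_Z hp cs (isRoot_vec hp cs (top_lt h)) (isRoot_vec hp cs hs) hne1 hne2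
    (xg_mem_XX h hp (top_lt h) a) (xg_mem_XX h hp hs d)
  have h3 : RGD.Sup (XX D l k) (combZ cs hp (vec D l (top D)) (vec D l s)) ≤ XX D l k (vec D l (tgt D s)) := by
    refine RGD.Sup_le fun z hz => ?_
    obtain ⟨hz, i, j, hi, hj, e⟩ := hz
    obtain ⟨z', hz', rfl⟩ := (isRoot_iff hp cs z).1 hz
    obtain ⟨rfl, rfl⟩ := combZ_long (hp := hp) h hs hw h1 hi hj hz' e
    rw [e, one_smul, one_smul, h6, add_comm]
  obtain ⟨b, hb⟩ := (mem_XX h hp h4).1 (h3 h2)
  rw [commutatorElement_def] at hb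
  refine ⟨b, ?_, hb⟩
  -- the commutator is not trivial: action on `e_{-θ}`
  rintro rfl
  rw [xg_zero] at hb
  have h5 : xg h (top D) a * xg h s d = xg h s d * xg h (top D) a := by
    rwa [mul_inv_eq_one, mul_inv_eq_iff_eq_mul] at hb
  have h7 : act (xg h s d) (ev D k 0) = ev D k 0 := by
    funext c
    rw [act_xg, mulVec_ev _ (nroots_pos h.checked)]
    by_contra hcon
    have hne : (D.x k s d - 1) c (Sum.inr ⟨0, nroots_pos h.checked⟩) ≠ 0 := by
      intro h0
      rw [Matrix.sub_apply, sub_eq_zero] at h0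
      apply hcon
      rw [h0, Matrix.one_apply]
      rcases c with i | v
      · rw [if_neg Sum.inl_ne_inr]; rfl
      · rw [ev_inr]
        by_cases hv : v.val = 0
        · rw [if_pos hv, if_pos]; congr 1; exact Fin.ext hv
        · rw [if_neg hv, if_neg]; intro e; exact hv (congrArg Fin.val (Sum.inr_injective e))
    obtain ⟨m, hm, h8⟩ := x_sub_one_support h.checked s d c _ hne
    have h9 : wt D c (node D) = rt D 0 (node D) + (m : ℤ) * rt D s (node D) := h8 (node D)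
    rw [rt_zero h, rt_top h, h1] at h9
    have hm' : (1 : ℤ) ≤ m := by exact_mod_cast hm
    rcases c with i | v
    · rw [wt_inl] at h9; omega
    · rw [wt_inr] at h9
      have := le_rt h v.2
      omega
  have h8 := congrArg (fun y => act y (ev D k 0)) h5
  simp only [act_mul] at h8
  rw [h7, act_top_ev_zero, act_sub, act_add, act_smul, act_smul, h7, act_xg_hT h hs, h1] at h8
  have h9 := congrFun h8 (Sum.inr ⟨s, hs⟩)
  have hst : s ≠ top D := by rintro rfl; rw [rt_top h] at h1; omega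
  have hs0 : s ≠ 0 := by rintro rfl; rw [rt_zero h, rt_top h] at h1; omega
  have hhT : hT D k (Sum.inr ⟨s, hs⟩) = 0 := rfl
  have h10 : act (xg h s d) (ev D k (top D)) (Sum.inr ⟨s, hs⟩) = 0 := by
    rw [act_xg, mulVec_ev _ (top_lt h)]
    by_contra hcon
    have hne : (D.x k s d - 1) (Sum.inr ⟨s, hs⟩) (Sum.inr ⟨top D, top_lt h⟩) ≠ 0 := by
      rw [Matrix.sub_apply, Matrix.one_apply_ne, sub_zero]
      · exact hcon
      · intro e; exact hst (congrArg Fin.val (Sum.inr_injective e))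
    obtain ⟨m, hm, h11⟩ := x_sub_one_support h.checked s d _ _ hne
    have h12 : vec D l s = 1 • vec D l (top D) + m • vec D l s := by
      funext i
      rw [one_smul, Pi.add_apply, Pi.smul_apply, nsmul_eq_mul]
      exact h11 i
    have h13 := combZ_long (hp := hp) h hs hw h1 one_pos hm hs h12
    rw [h13.2, one_smul, one_smul] at h12
    have h14 : vec D l (top D) = 0 := by
      have : vec D l (top D) + vec D l s = 0 + vec D l s := by rw [← h12, zero_add]
      exact add_right_cancel this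
    exact exists_vec_ne h hp (top_lt h) h14
  simp only [Pi.sub_apply, Pi.add_apply, Pi.smul_apply, smul_eq_mul, hhT, h10, ev_inr, if_neg hst, if_neg hs0,
    mul_zero, sub_zero, zero_add, if_true, mul_one] at h9
  push_cast at h9
  apply mul_ne_zero ha hd
  linear_combination -h9

end Cfsg.Agent.H818.StrP.UAct
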